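import Cfsg.Agent.Lib.MaxEss.Extend

/-!
The automizer of an essential subgroup acting on its Frattini quotient.
-/

set_option autoImplicit false
set_option linter.style.haveILetI false
set_option linter.unusedSectionVars false

namespace Cfsg.Agent.MaxNormal

open Cfsg Cfsg.FusionSystem Cfsg.Agent.FusionSys Cfsg.Agent.MaxEss
open scoped commutatorElement

variable {Ω : Type*} [Group Ω] {S : Subgroup Ω} [Finite S] {F : FusionSystem S} {p n : ℕ} [hp : Fact p.Prime]

/-- The Frattini quotient of a `p`-group is commutative. -/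
@[reducible] def commGroupFrattini {H : Type*} [Group H] [Finite H] (hH : IsPGroup p H) :
    CommGroup (H ⧸ frattini H) :=
  { (inferInstance : Group (H ⧸ frattini H)) with
    mul_comm := (MaximalCount.quotient_elementary hH (frattini H) le_rfl).1 }

variable (F) in
/-- The action on the Frattini quotient. -/
noncomputable def theta (L : Subgroup S) : autL F L →* MulAut (L ⧸ frattini L) :=
  (@Cfsg.Agent.PlaneFrame.quot _ _ (frattini L) frattini_characteristic).comp (autL F L).subtype

theorem theta_apply {L : Subgroup S} (a : autL F L) (x : L) :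
    theta F L a (x : L ⧸ frattini L) = (((a : MulAut L) x : L) : L ⧸ frattini L) := rfl

/-- The conjugation by an element of the normalizer. -/
noncomputable def cjA (F : FusionSystem S) (L : Subgroup S) (g : Subgroup.normalizer (L : Set S)) : autL F L :=
  ⟨L.normalizerMonoidHom g, conj_mem_autL g⟩

theorem cjA_apply {L : Subgroup S} (g : Subgroup.normalizer (L : Set S)) (x : L) :
    (((cjA F L g : MulAut L) x : L) : S) = (g : S) * x * (g : S)⁻¹ := rfl

theorem inner_trivial (hS : IsPGroup p S) {L : Subgroup S} {a : autL F L} {q : S} (hq : q ∈ L)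
    (ha : ∀ x : L, (((a : MulAut L) x : L) : S) = q * x * q⁻¹) : theta F L a = 1 := by
  refine MulEquiv.ext fun v => ?_
  obtain ⟨x, rfl⟩ := QuotientGroup.mk'_surjective _ v
  rw [QuotientGroup.mk'_apply, theta_apply, MulAut.one_apply,
    show (a : MulAut L) x = ⟨q, hq⟩ * x * ⟨q, hq⟩⁻¹ from Subtype.ext (ha x), QuotientGroup.mk_mul,
    QuotientGroup.mk_mul, QuotientGroup.mk_inv,
    (MaximalCount.quotient_elementary (hS.to_subgroup L) (frattini L) le_rfl).1, inv_mul_cancel_left]

theorem theta_ker_pGroup (hS : IsPGroup p S) (L : Subgroup S) : IsPGroup p (theta F L).ker := by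
  refine Cfsg.Agent.PlaneFrame.isPGroup_of_coprime_trivial _ fun γ hγ ho => ?_
  haveI : (frattini L).Normal := inferInstance
  refine Subtype.ext (Cfsg.Agent.MetaOdd.eq_one_of_frattini (hS.to_subgroup L)
    (by rwa [Subgroup.orderOf_coe]) fun x => ?_)
  have h1 : theta F L γ (x : L ⧸ frattini L) = (x : L ⧸ frattini L) := by
    rw [show theta F L γ = 1 from hγ]; rfl
  rw [theta_apply] at h1
  exact (inferInstance : (frattini L).Normal).mem_comm (QuotientGroup.eq.1 h1.symm)

/-- The kernel of the action of an essential subgroup's automizer consists of inner automorphisms. -/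
theorem exists_inner (hS : IsPGroup p S) (hF : F.IsSaturated p) {L : Subgroup S}
    (hE : F.IsEssential p (om L)) {a : autL F L} (ha : theta F L a = 1) :
    ∃ q ∈ L, ∀ x : L, (((a : MulAut L) x : L) : S) = q * x * q⁻¹ := by
  haveI := finite_of_le (om_le L)
  set e := autEquiv (F := F) L
  set N := ((theta F L).ker).map e.toMonoidHom with hN
  have hNp : IsPGroup p N := (theta_ker_pGroup hS L).map _
  haveI hNn : N.Normal := Subgroup.Normal.map inferInstance _ e.surjective
  have h1 : (e a : MulAut (om L)) ∈ Inn (om L) :=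
    (essential_radical hS hF hE).2.le ⟨e a, Cfsg.Agent.PBasic.le_pCore hNn hNp ⟨a, ha, rfl⟩, rfl⟩
  obtain ⟨q, hq⟩ := h1
  obtain ⟨⟨y, hy⟩, rfl⟩ := (eL L).surjective q
  refine ⟨y, hy, fun x => Subtype.ext ?_⟩
  have h2 := congrArg (fun f : MulAut (om L) => ((f (eL L x) : om L) : Ω)) hq
  rw [← congr_eL_apply (a : MulAut L) x]
  exact h2.symm

theorem theta_eq_one_iff (hS : IsPGroup p S) (hF : F.IsSaturated p) {L : Subgroup S}
    (hE : F.IsEssential p (om L)) (a : autL F L) :
    theta F L a = 1 ↔ (autEquiv (F := F) L a : MulAut (om L)) ∈ Inn (om L) := by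
  constructor
  · intro ha
    obtain ⟨q, hq, he⟩ := exists_inner hS hF hE ha
    refine ⟨eL L ⟨q, hq⟩, MulEquiv.ext fun v => Subtype.ext ?_⟩
    obtain ⟨x, rfl⟩ := (eL L).surjective v
    show _ = ((MulAut.congr (eL L) (a : MulAut L) (eL L x) : om L) : Ω)
    rw [congr_eL_apply, he]
    rfl
  · rintro ⟨q, hq⟩
    obtain ⟨⟨y, hy⟩, rfl⟩ := (eL L).surjective q
    refine inner_trivial hS hy fun x => Subtype.ext ?_
    rw [← congr_eL_apply (a : MulAut L) x]
    exact (congrArg (fun f : MulAut (om L) => ((f (eL L x) : om L) : Ω)) hq).symm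

end Cfsg.Agent.MaxNormal
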