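import Cfsg.Agent.Lib.PLocal.MaxClassLinear
import Cfsg.Agent.Lib.FiniteGroup.PolySeq

/-!
Commutators of generated subgroups, congruences between commutators and exponents modulo a subgroup.
-/

set_option autoImplicit false

namespace Cfsg.Agent.MaxNormal

open scoped commutatorElement

variable {G : Type*} [Group G]

/-- Commutators of subgroups lie in a normalized subgroup containing the commutators of generators. -/
theorem comm_le_of_gens {K : Subgroup G} {X Y : Set G}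
    (hX : Subgroup.closure X ≤ Subgroup.normalizer (K : Set G))
    (hY : Subgroup.closure Y ≤ Subgroup.normalizer (K : Set G))
    (h : ∀ x ∈ X, ∀ y ∈ Y, ⁅x, y⁆ ∈ K) :
    ∀ a ∈ Subgroup.closure X, ∀ b ∈ Subgroup.closure Y, ⁅a, b⁆ ∈ K := by
  have step : ∀ x ∈ X, ∀ b ∈ Subgroup.closure Y, ⁅x, b⁆ ∈ K := by
    intro x hx b hb
    induction hb using Subgroup.closure_induction with
    | mem y hy => exact h x hx y hy
    | one => rw [commutatorElement_one_right]; exact one_mem _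
    | mul a b ha _ iha ihb =>
      rw [show ⁅x, a * b⁆ = ⁅x, a⁆ * (a * ⁅x, b⁆ * a⁻¹) by simp only [commutatorElement_def]; group]
      exact mul_mem iha ((Subgroup.mem_normalizer_iff.1 (hY ha) _).1 ihb)
    | inv a ha iha =>
      rw [show ⁅x, a⁻¹⁆ = a⁻¹ * ⁅x, a⁆⁻¹ * a⁻¹⁻¹ by simp only [commutatorElement_def]; group]
      exact (Subgroup.mem_normalizer_iff.1 (inv_mem (hY ha)) _).1 (inv_mem iha)
  intro a ha b hb
  induction ha using Subgroup.closure_induction with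
  | mem x hx => exact step x hx b hb
  | one => rw [commutatorElement_one_left]; exact one_mem _
  | mul x y hx _ ihx ihy =>
    rw [show ⁅x * y, b⁆ = x * ⁅y, b⁆ * x⁻¹ * ⁅x, b⁆ by simp only [commutatorElement_def]; group]
    exact mul_mem ((Subgroup.mem_normalizer_iff.1 (hX hx) _).1 ihy) ihx
  | inv x hx ihx =>
    rw [show ⁅x⁻¹, b⁆ = x⁻¹ * ⁅x, b⁆⁻¹ * x⁻¹⁻¹ by simp only [commutatorElement_def]; group]
    exact (Subgroup.mem_normalizer_iff.1 (inv_mem (hX hx)) _).1 (inv_mem ihx)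

theorem comm_le_of_gens_normal {K : Subgroup G} [hK : K.Normal] {X Y : Set G}
    (h : ∀ x ∈ X, ∀ y ∈ Y, ⁅x, y⁆ ∈ K) :
    ∀ a ∈ Subgroup.closure X, ∀ b ∈ Subgroup.closure Y, ⁅a, b⁆ ∈ K :=
  comm_le_of_gens (by rw [Subgroup.normalizer_eq_top_iff.2 hK]; exact le_top)
    (by rw [Subgroup.normalizer_eq_top_iff.2 hK]; exact le_top) h

theorem comm_mem_symm {K : Subgroup G} {a b : G} (h : ⁅a, b⁆ ∈ K) : ⁅b, a⁆ ∈ K := by
  rw [← commutatorElement_inv]; exact inv_mem h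

/-- Congruent arguments have congruent commutators. -/
theorem comm_congr_mod {N : Subgroup G} [hN : N.Normal] {x u y v : G} (h1 : ⁅u, y⁆ ∈ N) (h2 : ⁅u, v⁆ ∈ N)
    (h3 : ⁅x, v⁆ ∈ N) : QuotientGroup.mk' N ⁅x * u, y * v⁆ = QuotientGroup.mk' N ⁅x, y⁆ := by
  have e : ⁅x * u, y * v⁆ = x * (⁅u, y⁆ * (y * ⁅u, v⁆ * y⁻¹)) * x⁻¹ * ⁅x, y⁆ * (y * ⁅x, v⁆ * y⁻¹) := by
    simp only [commutatorElement_def]; group
  have hk : ∀ {a : G}, a ∈ N → QuotientGroup.mk' N a = 1 := fun ha => (QuotientGroup.eq_one_iff _).2 ha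
  rw [e, map_mul, map_mul, hk (hN.conj_mem _ (mul_mem h1 (hN.conj_mem _ h2 y)) x), one_mul,
    hk (hN.conj_mem _ h3 y), mul_one]

theorem comm_mul_left' {x y w : G} (h : Commute x ⁅y, w⁆) : ⁅x * y, w⁆ = ⁅y, w⁆ * ⁅x, w⁆ := by
  have e : ⁅x * y, w⁆ = x * ⁅y, w⁆ * x⁻¹ * ⁅x, w⁆ := by simp only [commutatorElement_def]; group
  rw [e, h.eq, mul_inv_cancel_right]

theorem comm_mul_right' {x y w : G} (h : Commute y ⁅x, w⁆) : ⁅x, y * w⁆ = ⁅x, y⁆ * ⁅x, w⁆ := by
  have e : ⁅x, y * w⁆ = ⁅x, y⁆ * (y * ⁅x, w⁆ * y⁻¹) := by simp only [commutatorElement_def]; group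
  rw [e, h.eq, mul_inv_cancel_right]

/-- In an elementary section the exponent of a power in the smaller group is divisible by `p`. -/
theorem dvd_of_zpow_mem {K : Subgroup G} {p : ℕ} (hp : p.Prime) {x : G} (hx : x ∉ K) (hxp : x ^ p ∈ K) {k : ℤ}
    (hk : x ^ k ∈ K) : (p : ℤ) ∣ k := by
  by_contra hd
  have hc : IsCoprime k (p : ℤ) :=
    ((Nat.prime_iff_prime_int.1 hp).coprime_iff_not_dvd.2 hd).symm
  obtain ⟨a, b, hab⟩ := hc
  refine hx ?_
  rw [show x = (x ^ k) ^ a * (x ^ p) ^ b by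
    rw [← zpow_natCast x p, ← zpow_mul, ← zpow_mul, ← zpow_add, mul_comm k, mul_comm (p : ℤ), hab, zpow_one]]
  exact mul_mem (zpow_mem hk a) (zpow_mem hxp b)

theorem exists_pair {a b z : G} (hab : Commute a b) (hz : z ∈ Subgroup.closure ({a, b} : Set G)) :
    ∃ i j : ℤ, z = a ^ i * b ^ j := by
  induction hz using Subgroup.closure_induction with
  | mem x hx =>
    rcases hx with rfl | rfl
    · exact ⟨1, 0, by simp⟩
    · exact ⟨0, 1, by simp⟩
  | one => exact ⟨0, 0, by simp⟩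
  | mul x y _ _ ihx ihy =>
    obtain ⟨i, j, rfl⟩ := ihx
    obtain ⟨i', j', rfl⟩ := ihy
    exact ⟨i + i', j + j', by
      rw [zpow_add, zpow_add, mul_assoc (a ^ i) (b ^ j), ← mul_assoc (b ^ j) (a ^ i'), ← (hab.zpow_zpow i' j).eq]
      group⟩
  | inv x _ ihx =>
    obtain ⟨i, j, rfl⟩ := ihx
    exact ⟨-i, -j, by rw [_root_.mul_inv_rev, ← zpow_neg, ← zpow_neg, (hab.zpow_zpow (-i) (-j)).eq]⟩

end Cfsg.Agent.MaxNormal
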