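import Cfsg.Agent.Lib.MaxClassSylow.Uniform

/-!
Levels of the lower central series met by the normal subgroups and the centralizers of a group of
maximal class.
-/

set_option autoImplicit false
set_option linter.unusedSectionVars false

namespace Cfsg.Agent.MaxNormal

open Cfsg.Agent Cfsg.Agent.PolySeq
open Cfsg.Agent.S4144 (twoStep gam_two_eq)
open scoped commutatorElement

universe u

variable {G : Type u} [Group G] [Finite G] {p n : ℕ} [hp : Fact p.Prime] (hn : Nat.card G = p ^ n)
  (h3 : 3 ≤ n) (hcl : Group.nilpotencyClass G = n - 1)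
include hn h3 hcl

theorem gam_eq_bot {i : ℕ} (hi : n ≤ i) : gam G i = ⊥ := by
  have h := S3806.card_gam hn h3 hcl (i := n) (by omega) le_rfl
  rw [Nat.sub_self, pow_zero] at h
  exact le_bot_iff.1 ((gam_anti hi).trans (Subgroup.card_eq_one.1 h).le)

theorem index_gam {i : ℕ} (hi : 2 ≤ i) (hin : i ≤ n) : (gam G i).index = p ^ i := by
  have h := (gam G i).card_mul_index
  rw [S3806.card_gam hn h3 hcl hi hin, hn] at h
  refine Nat.eq_of_mul_eq_mul_left (pow_pos hp.out.pos (n - i)) ?_
  rw [h, ← pow_add]; congr 1; omega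

/-- A normal subgroup of index at least `p ^ 2` is a term of the lower central series. -/
theorem exists_eq_gam (N : Subgroup G) [N.Normal] (h : p ^ 2 ≤ N.index) :
    ∃ r, 2 ≤ r ∧ r ≤ n ∧ N = gam G r := by
  obtain ⟨r, hr⟩ := (IsPGroup.of_card hn).index N
  rw [hr] at h
  have h2 := (Nat.pow_le_pow_iff_right hp.out.one_lt).1 h
  exact ⟨r, h2, (Nat.pow_dvd_pow_iff_le_right hp.out.one_lt).1 (hr ▸ hn ▸ N.index_dvd_card),
    MaxClass.eq_lcs_of_index hn h3 hcl N h2 hr⟩

theorem exists_level (N : Subgroup G) [N.Normal] {r : ℕ} (hr : 2 ≤ r) (hrn : r ≤ n) (hN : N ≤ gam G r) :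
    ∃ m, r ≤ m ∧ m ≤ n ∧ N = gam G m := by
  have hle : p ^ r ≤ N.index := by
    rw [← index_gam hn h3 hcl hr hrn]
    exact Nat.le_of_dvd (Nat.pos_of_ne_zero Subgroup.index_ne_zero_of_finite) (Subgroup.index_dvd_of_le hN)
  obtain ⟨m, hm2, hmn, rfl⟩ := exists_eq_gam hn h3 hcl N ((Nat.pow_le_pow_right hp.out.pos hr).trans hle)
  refine ⟨m, ?_, hmn, rfl⟩
  rcases Nat.lt_or_ge m r with h | h
  · exfalso
    rw [index_gam hn h3 hcl (by omega) hmn] at hle
    exact absurd ((Nat.pow_le_pow_iff_right hp.out.one_lt).1 hle) (by omega)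
  · exact h

/-- An element of the derived subgroup commuting with a uniform element modulo a term is deep. -/
theorem deep_of_comm {s z : G} (hs : ∀ j, 2 ≤ j → j + 1 < n → s ∉ twoStep G j) (hz : z ∈ gam G 2)
    {k : ℕ} (hk : k ≤ n) (h : ⁅z, s⁆ ∈ gam G k) :
    ∀ i, 2 + i + 1 ≤ k → z ∈ gam G (2 + i) := by
  intro i
  induction i with
  | zero => exact fun _ => hz
  | succ i ih =>
    intro hi
    by_contra hcon
    exact MaxClassSylow.comm_not_mem hn h3 hcl (by omega) (by omega) (hs (2 + i) (by omega) (by omega))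
      (ih (by omega)) hcon (gam_anti (by omega) h)

/-- No element outside the derived subgroup is central modulo the third term. -/
theorem exists_comm_not_mem {s : G} (hs : s ∉ gam G 2) : ∃ g : G, ⁅g, s⁆ ∉ gam G 3 := by
  by_contra! hc
  set f := QuotientGroup.mk' (gam G 3) with hf
  set M := (Subgroup.center (G ⧸ gam G 3)).comap f with hM
  have hmem : ∀ {x}, x ∈ M ↔ ∀ g, ⁅g, x⁆ ∈ gam G 3 := fun {x} => by
    rw [hM, Subgroup.mem_comap, Subgroup.mem_center_iff]
    refine ⟨fun h g => ?_, fun h q => ?_⟩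
    · rw [← S4144.mk_eq_one, ← hf, map_commutatorElement, commutatorElement_eq_one_iff_mul_comm]
      exact h (f g)
    · obtain ⟨g, rfl⟩ := QuotientGroup.mk'_surjective (gam G 3) q
      show f g * f x = f x * f g
      rw [← commutatorElement_eq_one_iff_mul_comm, ← map_commutatorElement, hf, S4144.mk_eq_one]
      exact h g
  have h2M : gam G 2 ≤ M := fun x hx => hmem.2 fun g => gam_commutator (i := 1) (j := 2) (Subgroup.mem_top g) hx
  have htop : M = ⊤ := by
    by_contra hne
    obtain ⟨g, -, hgM⟩ := SetLike.exists_of_lt (lt_top_iff_ne_top.2 hne)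
    set C := (Subgroup.centralizer ({f g} : Set (G ⧸ gam G 3))).comap f with hC
    have hle : M ≤ C := fun x hx => by
      rw [hC, Subgroup.mem_comap, Subgroup.mem_centralizer_singleton_iff,
        ← commutatorElement_eq_one_iff_mul_comm, ← map_commutatorElement, hf, S4144.mk_eq_one]
      have h1 := inv_mem (hmem.1 hx g)
      rwa [commutatorElement_inv] at h1
    have hgC : g ∈ C := Subgroup.mem_comap.2 (Subgroup.mem_centralizer_singleton_iff.2 rfl)
    obtain ⟨a, ha⟩ := IsPGroup.iff_card.1 ((IsPGroup.of_card hn).to_subgroup M)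
    obtain ⟨b, hb⟩ := IsPGroup.iff_card.1 ((IsPGroup.of_card hn).to_subgroup C)
    have h1 : p ^ (n - 2) < p ^ a := by
      rw [← ha, ← S3806.card_gam hn h3 hcl le_rfl (by omega)]
      exact Set.ncard_lt_ncard (SetLike.coe_ssubset_coe.2
        (SetLike.lt_iff_le_and_exists.2 ⟨h2M, s, hmem.2 hc, hs⟩)) (Set.toFinite _)
    have h2 : p ^ a < p ^ b := by
      rw [← ha, ← hb]
      exact Set.ncard_lt_ncard (SetLike.coe_ssubset_coe.2
        (SetLike.lt_iff_le_and_exists.2 ⟨hle, g, hgC, hgM⟩)) (Set.toFinite _)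
    have h4 : p ^ b ≤ p ^ n := by rw [← hb, ← hn]; exact Subgroup.card_le_card_group C
    have := (Nat.pow_lt_pow_iff_right hp.out.one_lt).1 h1
    have := (Nat.pow_lt_pow_iff_right hp.out.one_lt).1 h2
    have := (Nat.pow_le_pow_iff_right hp.out.one_lt).1 h4
    have hCtop : C = ⊤ := Subgroup.eq_top_of_card_eq C (by rw [hb, hn]; congr 1; omega)
    refine hgM (hmem.2 fun x => ?_)
    have h5 : x ∈ C := hCtop ▸ Subgroup.mem_top x
    rw [hC, Subgroup.mem_comap, Subgroup.mem_centralizer_singleton_iff,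
      ← commutatorElement_eq_one_iff_mul_comm, ← map_commutatorElement, hf, S4144.mk_eq_one] at h5
    exact h5
  refine MaxClassSylow.not_gam_le' hn h3 hcl (le_refl 2) (by omega) ?_
  rw [show gam G 2 = ⁅gam G 1, (⊤ : Subgroup G)⁆ from MaxClassLinear.gam_step le_rfl, Subgroup.commutator_le]
  exact fun a _ b _ => hmem.1 (htop ▸ Subgroup.mem_top b) a

/-- The centralizer of a uniform element modulo a term has the expected order. -/
theorem card_cent_mod {s : G} (hs2 : s ∉ gam G 2) (hs : ∀ j, 2 ≤ j → j + 1 < n → s ∉ twoStep G j)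
    {r : ℕ} (hr : 2 ≤ r) (hrn : r < n) (C : Subgroup G) (hC : ∀ g, g ∈ C ↔ ⁅g, s⁆ ∈ gam G r) :
    Nat.card C = p ^ (n - r + 2) := by
  rcases eq_or_lt_of_le hr with rfl | hr3
  · have : C = ⊤ := eq_top_iff.2 fun g _ =>
      (hC g).2 (gam_commutator (i := 1) (j := 1) (Subgroup.mem_top g) (Subgroup.mem_top s))
    rw [this, Subgroup.card_top, hn]; congr 1; omega
  have hinf : C ⊓ gam G 2 = gam G (r - 1) := by
    refine le_antisymm (fun z hz => ?_) fun z hz => ⟨(hC z).2 ?_, gam_anti (by omega) hz⟩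
    · have := deep_of_comm hn h3 hcl hs hz.2 hrn.le ((hC z).1 hz.1) (r - 3) (by omega)
      rwa [show 2 + (r - 3) = r - 1 by omega] at this
    · have := gam_commutator (j := 1) hz (Subgroup.mem_top s)
      rwa [show r - 1 + 1 = r by omega] at this
  have hsC : s ∈ C := (hC s).2 (by rw [commutatorElement_self]; exact one_mem _)
  have hne : gam G 2 ⊔ C ≠ ⊤ := by
    intro h1
    haveI := (IsPGroup.of_card hn).isNilpotent
    rw [gam_two_eq, sup_comm] at h1
    have h2 := RegularP.eq_top_of_sup_commutator h1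
    obtain ⟨g, hg⟩ := exists_comm_not_mem hn h3 hcl hs2
    exact hg (gam_anti (by omega) ((hC g).1 (h2 ▸ Subgroup.mem_top g)))
  have hsup : Nat.card (gam G 2 ⊔ C : Subgroup G) = p ^ (n - 1) := by
    obtain ⟨a, ha⟩ := IsPGroup.iff_card.1 ((IsPGroup.of_card hn).to_subgroup (gam G 2 ⊔ C))
    have h1 : p ^ (n - 2) < p ^ a := by
      rw [← ha, ← S3806.card_gam hn h3 hcl le_rfl (by omega)]
      exact Set.ncard_lt_ncard (SetLike.coe_ssubset_coe.2
        (SetLike.lt_iff_le_and_exists.2 ⟨le_sup_left, s, Subgroup.mem_sup_right hsC, hs2⟩)) (Set.toFinite _)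
    have h4 : p ^ a ≤ p ^ n := by rw [← ha, ← hn]; exact Subgroup.card_le_card_group _
    have h5 : a ≠ n := fun e => hne (Subgroup.eq_top_of_card_eq _ (by rw [ha, hn, e]))
    have := (Nat.pow_lt_pow_iff_right hp.out.one_lt).1 h1
    have := (Nat.pow_le_pow_iff_right hp.out.one_lt).1 h4
    rw [ha]; congr 1; omega
  have hprod := SolvBasic.card_sup_mul_card_inf (N := gam G 2) (H := C) Subgroup.le_normalizer_of_normal
  rw [inf_comm, hinf, hsup, S3806.card_gam hn h3 hcl (by omega) (by omega),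
    S3806.card_gam hn h3 hcl le_rfl (by omega), ← pow_add] at hprod
  refine Nat.eq_of_mul_eq_mul_left (pow_pos hp.out.pos (n - 2)) (hprod.symm.trans ?_)
  rw [← pow_add]; congr 1; omega

end Cfsg.Agent.MaxNormal
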