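import Cfsg.Agent.Lib.MaxNormal.Basic
import Cfsg.Agent.Lib.MaxNormal.Series
import Cfsg.Agent.Lib.RegularSE.Induct
import Cfsg.Agent.S5179
import Mathlib.LinearAlgebra.Matrix.ToLin
import Mathlib.Algebra.Module.ZMod

/-!
A normal essential subgroup of a group of maximal class has index `p`.
-/

set_option autoImplicit false
set_option linter.style.haveILetI false
set_option linter.unusedSectionVars false

namespace Cfsg.Agent.MaxNormal

open Cfsg Cfsg.FusionSystem Cfsg.Agent Cfsg.Agent.FusionSys Cfsg.Agent.MaxEss Cfsg.Agent.PolySeq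
open Cfsg.Agent.S4144 (twoStep gam_two_eq)
open scoped commutatorElement

/-- A basis of an elementary abelian group given by as many generators as the rank. -/
theorem exists_basis {p d : ℕ} [hp : Fact p.Prime] {A : Type*} [AddCommGroup A] [Module (ZMod p) A] [Finite A]
    (hcard : Nat.card A = p ^ d) (v : Fin d → A) (hv : AddSubgroup.closure (Set.range v) = ⊤) :
    ∃ B : Module.Basis (Fin d) (ZMod p) A, ∀ i, B i = v i := by
  classical
  set φ := Fintype.linearCombination (ZMod p) v with hφ
  have happ : ∀ i, φ (Pi.single i 1) = v i := fun i => by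
    rw [hφ, Fintype.linearCombination_apply_single, one_smul]
  have hsurj : Function.Surjective φ := by
    intro a
    have h : AddSubgroup.closure (Set.range v) ≤ φ.toAddMonoidHom.range := by
      rw [AddSubgroup.closure_le]
      rintro _ ⟨i, rfl⟩
      exact ⟨_, happ i⟩
    exact h (hv ▸ AddSubgroup.mem_top a)
  haveI : NeZero p := ⟨hp.out.ne_zero⟩
  have hbij : Function.Bijective φ := hsurj.bijective_of_nat_card_le (by
    rw [hcard, Nat.card_fun, Nat.card_zmod, Nat.card_fin])
  refine ⟨Module.Basis.ofEquivFun (LinearEquiv.ofBijective φ hbij).symm, fun i => ?_⟩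
  rw [Module.Basis.coe_ofEquivFun, LinearEquiv.symm_symm]
  exact happ i

/-- Automorphisms of an elementary abelian group as linear maps. -/
noncomputable def linAut {p : ℕ} {V : Type*} [CommGroup V] [Module (ZMod p) (Additive V)] :
    MulAut V →* Module.End (ZMod p) (Additive V) where
  toFun u := (MonoidHom.toAdditive u.toMonoidHom).toZModLinearMap p
  map_one' := by ext x; rfl
  map_mul' u u' := by ext x; rfl

theorem linAut_apply {p : ℕ} {V : Type*} [CommGroup V] [Module (ZMod p) (Additive V)] (u : MulAut V) (v : V) :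
    linAut (p := p) u (Additive.ofMul v) = Additive.ofMul (u v) := rfl

/-- The matrices of the automorphisms. -/
noncomputable def repAut {p d : ℕ} {V : Type*} [CommGroup V] [Module (ZMod p) (Additive V)]
    (B : Module.Basis (Fin d) (ZMod p) (Additive V)) : MulAut V →* Matrix (Fin d) (Fin d) (ZMod p) :=
  (MonoidHomClass.toMonoidHom (LinearMap.toMatrixAlgEquiv B)).comp linAut

theorem repAut_apply {p d : ℕ} {V : Type*} [CommGroup V] [Module (ZMod p) (Additive V)]
    (B : Module.Basis (Fin d) (ZMod p) (Additive V)) (u : MulAut V) (r c : Fin d) :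
    repAut B u r c = B.repr (Additive.ofMul (u (Additive.toMul (B c)))) r :=
  LinearMap.toMatrixAlgEquiv_apply B (linAut u) r c

theorem repAut_injective {p d : ℕ} {V : Type*} [CommGroup V] [Module (ZMod p) (Additive V)]
    (B : Module.Basis (Fin d) (ZMod p) (Additive V)) : Function.Injective (repAut B) := fun u u' h =>
  MulEquiv.ext fun v => congrArg Additive.toMul
    (LinearMap.congr_fun ((LinearMap.toMatrixAlgEquiv B).injective h) (Additive.ofMul v))

theorem repAut_shift {p d : ℕ} {V : Type*} [CommGroup V] [Module (ZMod p) (Additive V)]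
    (B : Module.Basis (Fin d) (ZMod p) (Additive V)) (u : MulAut V) (β : ℕ → V)
    (hB : ∀ c : Fin d, B c = Additive.ofMul (β c)) (hβ : ∀ j, d ≤ j → β j = 1)
    (hu : ∀ c : Fin d, u (β c) = β c * β (c + 1)) :
    repAut B u = 1 + RegularSE.shift (ZMod p) d 1 := by
  ext r c
  rw [repAut_apply, hB, toMul_ofMul, hu, ofMul_mul, map_add, Finsupp.add_apply, Matrix.add_apply,
    RegularSE.shift_apply, ← hB c, B.repr_self, Finsupp.single_apply, Matrix.one_apply]
  congr 1
  · exact if_congr eq_comm rfl rfl
  · by_cases hc : c.val + 1 < d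
    · rw [show β (c + 1) = β ((⟨c + 1, hc⟩ : Fin d) : ℕ) from rfl, ← hB, B.repr_self, Finsupp.single_apply]
      exact if_congr (by rw [Fin.ext_iff, eq_comm]) rfl rfl
    · rw [hβ _ (by omega), ofMul_one, map_zero, Finsupp.zero_apply, if_neg (by omega)]

variable {Ω : Type*} [Group Ω] {S : Subgroup Ω} [Finite S] {F : FusionSystem S} {p n : ℕ} [hp : Fact p.Prime]
variable (hS : IsPGroup p S) (hF : F.IsSaturated p) {L : Subgroup S} [hLn : L.Normal]

variable (F L) in
/-- Conjugation by the elements of `S`, read in the automizer of a normal subgroup. -/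
noncomputable def cjS : S →* autL F L :=
  (L.normalizerMonoidHom.codRestrict (autL F L) conj_mem_autL).comp
    ((MonoidHom.id S).codRestrict (Subgroup.normalizer (L : Set S)) fun g => by
      rw [Subgroup.normalizer_eq_top_iff.2 hLn]; exact Subgroup.mem_top g)

theorem cjS_apply (g : S) (x : L) : (((cjS F L g : MulAut L) x : L) : S) = g * x * g⁻¹ := rfl

theorem cjS_conj_apply (g : S) (x : om L) :
    ((((autEquiv L (cjS F L g) : F.autGroup (om L)) : MulAut (om L)) x : om L) : Ω) =
      (g : Ω) * x * (g : Ω)⁻¹ := by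
  obtain ⟨x, rfl⟩ := (eL L).surjective x
  show ((MulAut.congr (eL L) (cjS F L g : MulAut L) (eL L x) : om L) : Ω) = _
  rw [congr_eL_apply]
  rfl

include hS hF in
/-- A normal essential subgroup of a group of maximal class has index `p`. -/
theorem index_eq (hn : Nat.card S = p ^ n) (h4 : 4 ≤ n) (hcl : Group.nilpotencyClass S = n - 1) (h5 : 5 ≤ p)
    (hE : F.IsEssential p (om L)) : L.index = p := by
  classical
  have h3 : 3 ≤ n := by omega
  haveI := finite_of_le (om_le L)
  have hcen : Subgroup.centralizer (L : Set S) ≤ L := by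
    have h := centralizerIn_le_of_centric hE.1
    rw [centralizerIn_om] at h
    exact (Subgroup.map_le_map_iff_of_injective S.subtype_injective).1 h
  have hLt : L ≠ ⊤ := fun h => (essential_lt hS hF hE).ne (by
    rw [h, om, ← MonoidHom.range_eq_map, Subgroup.range_subtype])
  obtain ⟨k, hk⟩ := hS.index L
  rcases Nat.lt_or_ge k 2 with hk2 | hk2
  · interval_cases k
    · exact absurd (Subgroup.index_eq_one.1 (hk.trans (pow_zero p))) hLt
    · rw [hk, pow_one]
  exfalso
  obtain ⟨r, hr, hrn, hLr⟩ := exists_eq_gam hn h3 hcl L (hk ▸ Nat.pow_le_pow_right hp.out.pos hk2)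
  have hrn' : r < n := by
    rcases Nat.lt_or_eq_of_le hrn with h | rfl
    · exact h
    exfalso
    rw [gam_eq_bot hn h3 hcl le_rfl] at hLr
    subst hLr
    have h1 : (1 : ℕ) < Nat.card S := hn ▸ Nat.one_lt_pow (by omega) hp.out.one_lt
    rw [Finite.one_lt_card_iff_nontrivial] at h1
    obtain ⟨x, hx⟩ := exists_ne (1 : S)
    exact hx (Subgroup.mem_bot.1 (hcen (Subgroup.mem_centralizer_iff.2 fun y hy => by
      rw [Subgroup.mem_bot.1 hy, one_mul, mul_one])))
  have hLp := hS.to_subgroup L
  haveI := hLp.isNilpotent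
  -- the Frattini subgroup is a term
  set Φ := frattini L with hΦ
  haveI hΦc : Φ.Characteristic := frattini_characteristic
  haveI hΦS : (Φ.map L.subtype).Normal := inferInstance
  obtain ⟨m, hrm, hmn, hΦm⟩ := exists_level hn h3 hcl (Φ.map L.subtype) hr hrn
    (hLr ▸ Subgroup.map_subtype_le Φ)
  set d := m - r with hd
  letI : CommGroup (L ⧸ Φ) := commGroupFrattini hLp
  letI : Module (ZMod p) (Additive (L ⧸ Φ)) := AddCommGroup.zmodModule fun x =>
    (MaximalCount.quotient_elementary hLp Φ le_rfl).2 (Additive.toMul x)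
  have hcardV : Nat.card (Additive (L ⧸ Φ)) = p ^ d := by
    have h1 : Nat.card (L ⧸ Φ) * Nat.card Φ = p ^ d * Nat.card Φ := by
      rw [← Subgroup.card_eq_card_quotient_mul_card_subgroup, ← Subgroup.card_map_of_injective
        L.subtype_injective (K := Φ), hΦm, S3806.card_gam hn h3 hcl (by omega) hmn, hLr,
        S3806.card_gam hn h3 hcl hr hrn, ← pow_add]
      congr 1; omega
    exact Nat.eq_of_mul_eq_mul_right Nat.card_pos h1
  -- the uniform element and the basis
  obtain ⟨s, hs2, hs⟩ := MaxClassSylow.exists_uniform hn h3 hcl h4 (gam S 2) (fun h => by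
    have h1 := S3806.card_gam hn h3 hcl (le_refl 2) (by omega)
    rw [h, Subgroup.card_top, hn] at h1
    exact absurd (Nat.pow_right_injective hp.out.two_le h1) (by omega))
  obtain ⟨w, hw, hw'⟩ := SetLike.not_le_iff_exists.1 (MaxClassSylow.not_gam_le' hn h3 hcl hr hrn')
  let E : ℕ → S := fun j => (fun y => ⁅s, y⁆)^[j] w
  have hEsucc : ∀ j, E (j + 1) = ⁅s, E j⁆ := fun j => Function.iterate_succ_apply' _ j w
  have hEmem : ∀ j, E j ∈ gam S (r + j) := by
    intro j
    induction j with
    | zero => exact hw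
    | succ j ih =>
      rw [hEsucc, show r + (j + 1) = 1 + (r + j) by omega]
      exact gam_commutator (i := 1) (Subgroup.mem_top s) ih
  have hEnot : ∀ j, r + j < n → E j ∉ gam S (r + j + 1) := by
    intro j
    induction j with
    | zero => exact fun _ => hw'
    | succ j ih =>
      intro hj h
      rw [hEsucc] at h
      have h1 := inv_mem h
      rw [commutatorElement_inv] at h1
      exact MaxClassSylow.comm_not_mem hn h3 hcl (by omega) (by omega) (hs (r + j) (by omega) (by omega))
        (hEmem j) (ih (by omega)) (by rwa [show r + (j + 1) + 1 = r + j + 2 by omega] at h1)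
  have hEL : ∀ j, E j ∈ L := fun j => hLr ▸ gam_anti (by omega) (hEmem j)
  let b : ℕ → Additive (L ⧸ Φ) := fun j => Additive.ofMul ((⟨E j, hEL j⟩ : L) : L ⧸ Φ)
  have hbd : ∀ j, d ≤ j → b j = 0 := by
    intro j hj
    refine congrArg Additive.ofMul ((QuotientGroup.eq_one_iff _).2 ?_)
    have h1 : E j ∈ Φ.map L.subtype := hΦm ▸ gam_anti (by omega) (hEmem j)
    obtain ⟨y, hy, hye⟩ := h1
    rwa [show (⟨E j, hEL j⟩ : L) = y from Subtype.ext hye.symm]
  -- they generate
  have hgen : AddSubgroup.closure (Set.range fun c : Fin d => b c) = ⊤ := by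
    set Q : Subgroup L := (AddSubgroup.toSubgroup'
      (AddSubgroup.closure (Set.range fun c : Fin d => b c))).comap (QuotientGroup.mk' Φ) with hQ
    have key : ∀ i, i ≤ d → gam S (m - i) ≤ Q.map L.subtype := by
      intro i
      induction i with
      | zero =>
        intro _
        rw [Nat.sub_zero, ← hΦm]
        refine Subgroup.map_mono fun y hy => ?_
        rw [hQ, Subgroup.mem_comap, QuotientGroup.mk'_apply, (QuotientGroup.eq_one_iff y).2 hy]
        exact one_mem _
      | succ i ih =>
        intro hi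
        have h1 : m - (i + 1) = r + (d - (i + 1)) := by omega
        refine (S3806.gam_gen hn h3 hcl (by omega) (by omega) (y := E (d - (i + 1)))
          (h1 ▸ hEmem _) (h1 ▸ hEnot _ (by omega))).trans (sup_le (Subgroup.zpowers_le.2 ?_) ?_)
        · refine ⟨⟨_, hEL _⟩, ?_, rfl⟩
          exact AddSubgroup.subset_closure ⟨⟨d - (i + 1), by omega⟩, rfl⟩
        · rw [show m - (i + 1) + 1 = m - i by omega]
          exact ih (by omega)
    refine eq_top_iff.2 fun a _ => ?_
    obtain ⟨y, hy⟩ := QuotientGroup.mk'_surjective Φ (Additive.toMul a)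
    have h2 := key d le_rfl (show (y : S) ∈ gam S (m - d) by
      rw [show m - d = r by omega]; exact hLr ▸ y.2)
    obtain ⟨z, hz, hze⟩ := h2
    obtain rfl : z = y := Subtype.ext hze
    have h3' : Additive.ofMul (QuotientGroup.mk' Φ z) ∈ AddSubgroup.closure (Set.range fun c : Fin d => b c) := hz
    rwa [hy] at h3'
  obtain ⟨B, hB⟩ := exists_basis hcardV (fun c : Fin d => b c) hgen
  -- the representation
  set rep := repAut B with hrep0
  set e := autEquiv (F := F) L
  set I := (Inn (om L)).subgroupOf (F.autGroup (om L)) with hI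
  set ρ0 : F.autGroup (om L) →* Matrix (Fin d) (Fin d) (ZMod p) :=
    rep.comp ((theta F L).comp e.symm.toMonoidHom) with hρ0
  have hker : ∀ a, ρ0 a = 1 ↔ (a : MulAut (om L)) ∈ Inn (om L) := fun a => by
    rw [← e.apply_symm_apply a, ← theta_eq_one_iff hS hF hE, ← map_one rep, e.apply_symm_apply]
    exact ⟨fun h => repAut_injective B h, fun h => congrArg rep h⟩
  let ρ : F.autGroup (om L) ⧸ I →* Matrix (Fin d) (Fin d) (ZMod p) :=
    QuotientGroup.lift I ρ0 fun a ha => (hker a).2 (Subgroup.mem_subgroupOf.1 ha)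
  have hρinj : Function.Injective ρ := by
    intro q q' h
    obtain ⟨a, rfl⟩ := QuotientGroup.mk'_surjective I q
    obtain ⟨a', rfl⟩ := QuotientGroup.mk'_surjective I q'
    refine QuotientGroup.eq.2 (Subgroup.mem_subgroupOf.2 ((hker _).1 ?_))
    have h' : ρ0 a = ρ0 a' := h
    rw [map_mul, ← h', ← map_mul, inv_mul_cancel, map_one]
  set ψ : S →* F.autGroup (om L) ⧸ I :=
    (outMk F (om L)).comp (e.toMonoidHom.comp (cjS F L)) with hψ
  have hrange : ψ.range = outS F (om L) := by
    refine le_antisymm ?_ ?_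
    · rintro _ ⟨g, rfl⟩
      exact ⟨e (cjS F L g), conj_mem_induced (g := g) fun _ => rfl, rfl⟩
    · rintro _ ⟨a, ha, rfl⟩
      obtain ⟨a, rfl⟩ := e.surjective a
      obtain ⟨g, hg⟩ := exists_of_induced (Subgroup.mem_subgroupOf.1 ha)
      exact ⟨g, congrArg (fun z => outMk F (om L) (e z))
        (show cjS F L g = a from Subtype.ext (MulEquiv.ext fun x => Subtype.ext (hg x).symm))⟩
  have hψker : ∀ g, ψ g = 1 ↔ g ∈ L := by
    intro g
    refine (outMk_eq_one_iff F (om L) _).trans ⟨fun h => ?_, fun h => ?_⟩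
    · obtain ⟨y, hy, hye⟩ := mem_of_conj_mem_inn (F := F) (centralizerIn_le_of_centric hE.1) g.2 (om_le L)
        (cjS_conj_apply g) h
      rwa [← S.subtype_injective (hye : S.subtype y = S.subtype g)]
    · exact (theta_eq_one_iff hS hF hE _).1 (inner_trivial hS h fun x => cjS_apply g x)
  have hx : ρ (ψ s) = 1 + RegularSE.shift (ZMod p) d 1 := by
    show rep (theta F L (e.symm (e (cjS F L s)))) = _
    rw [MulEquiv.symm_apply_apply]
    refine repAut_shift B _ (fun j => ((⟨E j, hEL j⟩ : L) : L ⧸ Φ)) hB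
      (fun j hj => congrArg Additive.toMul (hbd j hj)) fun c => ?_
    rw [theta_apply, show ((cjS F L s : MulAut L) ⟨E c, hEL c⟩ : L) = ⟨E (c + 1), hEL _⟩ * ⟨E c, hEL c⟩ from
      Subtype.ext (by
        rw [cjS_apply, Subgroup.coe_mul]
        show s * E c * s⁻¹ = E (c + 1) * E c
        rw [hEsucc, commutatorElement_def, inv_mul_cancel_right]), QuotientGroup.mk_mul]
    exact (MaximalCount.quotient_elementary hLp Φ le_rfl).1 _ _
  -- the dimension
  have hdp : d ≤ p := by
    by_contra hlt
    have hsp : s ^ p ∈ L := by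
      rw [hLr]
      refine gam_anti (show r ≤ 2 + (n - 3) by omega) (deep_of_comm hn h3 hcl hs
        (S3806.pow_mem_gam hn h3 hcl le_rfl hp.out.two_le (by omega) s) le_rfl ?_ (n - 3) (by omega))
      rw [commutatorElement_eq_one_iff_mul_comm.2 (pow_mul_comm' s p)]
      exact one_mem _
    have h1 : (1 + RegularSE.shift (ZMod p) d 1) ^ p = 1 := by
      rw [← hx, ← map_pow, ← map_pow, (hψker _).2 hsp, map_one]
    haveI : Nonempty (Fin d) := ⟨⟨0, by omega⟩⟩
    haveI : CharP (Matrix (Fin d) (Fin d) (ZMod p)) p := Matrix.charP p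
    rw [add_pow_char_of_commute _ (Commute.one_left _), one_pow, add_eq_left, RegularSE.shift_one_pow] at h1
    have h2 := congrFun (congrFun h1 ⟨p, by omega⟩) ⟨0, by omega⟩
    rw [RegularSE.shift_apply, if_pos (by simp)] at h2
    exact one_ne_zero h2
  obtain ⟨M, hM, hSM⟩ := exists_stronglyEmbedded_ge_outS hS hF hE
  obtain ⟨R, hR⟩ := exists_outS_sylow hS hF hE.2.1
  refine RegularSE.not_datum h5 d hdp _
    { ρ := ρ, inj := hρinj, H := M, T := R, x := ψ s,
      H_ne := hM.2.1, T_le := hR.le.trans hSM,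
      mem_H := fun t ht htp ht1 g hg => S5179.spe_mem hM ht hg ht1 htp,
      x_mem := hR.ge (hrange.le ⟨s, rfl⟩), rho_x := hx, card_cent := ?_ }
  rw [hR, ← hrange, ← Subgroup.map_comap_eq]
  set C := (Subgroup.centralizer ({ψ s} : Set (F.autGroup (om L) ⧸ I))).comap ψ with hCdef
  have hC : ∀ g, g ∈ C ↔ ⁅g, s⁆ ∈ gam S r := fun g => by
    rw [← hLr, ← hψker, map_commutatorElement, commutatorElement_eq_one_iff_mul_comm, hCdef,
      Subgroup.mem_comap, Subgroup.mem_centralizer_singleton_iff]
  have hLC : ψ.ker = L := Subgroup.ext fun g => hψker g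
  have hle : ψ.ker ≤ C := ψ.ker_le_comap _
  have hprod := Subgroup.relIndex_mul_relIndex ⊥ ψ.ker C bot_le hle
  rw [Subgroup.relIndex_bot_left, Subgroup.relIndex_bot_left, Subgroup.relIndex_ker,
    card_cent_mod hn h3 hcl hs2 hs hr hrn' C hC,
    show Nat.card ψ.ker = p ^ (n - r) by rw [congrArg (fun K : Subgroup S => Nat.card K) (hLC.trans hLr),
      S3806.card_gam hn h3 hcl hr hrn], pow_add] at hprod
  exact Nat.eq_of_mul_eq_mul_left (pow_pos hp.out.pos _) hprod

end Cfsg.Agent.MaxNormal
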