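import Cfsg.Agent.Lib.MaxNormal.Series
import Cfsg.Agent.Lib.MaxNormal.Gens
import Cfsg.Agent.Lib.MaxEss.Basic

/-!
A maximal subgroup other than `Γ₁` of a group of maximal class of order at least `p ^ 7` cannot be
inverted modulo its derived subgroup by an automorphism of the whole group fixing its cosets.
-/

set_option autoImplicit false
set_option linter.unusedSectionVars false

namespace Cfsg.Agent.MaxNormal

open Cfsg.Agent Cfsg.Agent.PolySeq
open Cfsg.Agent.S4144 (twoStep gam_two_eq)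
open scoped commutatorElement

universe u

variable {G : Type u} [Group G] [Finite G] {p n : ℕ} [hp : Fact p.Prime] (hn : Nat.card G = p ^ n)
  (h3 : 3 ≤ n) (hcl : Group.nilpotencyClass G = n - 1)
include hn h3 hcl

theorem pow_mem_succ {i : ℕ} (hi : 2 ≤ i) (hin : i < n) {x : G} (hx : x ∈ gam G i) :
    x ^ p ∈ gam G (i + 1) := by
  have hidx : ((gam G (i + 1)).subgroupOf (gam G i)).index = p := by
    have h := Subgroup.relIndex_mul_relIndex ⊥ (gam G (i + 1)) (gam G i) bot_le (gam_anti (Nat.le_succ i))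
    rw [Subgroup.relIndex_bot_left, Subgroup.relIndex_bot_left, S3806.card_gam hn h3 hcl (by omega) hin,
      S3806.card_gam hn h3 hcl hi hin.le, show n - i = n - (i + 1) + 1 by omega, pow_succ] at h
    exact Nat.eq_of_mul_eq_mul_left (pow_pos hp.out.pos _) h
  have h2 := Subgroup.pow_index_mem ((gam G (i + 1)).subgroupOf (gam G i)) ⟨x, hx⟩
  rw [hidx] at h2
  exact Subgroup.mem_subgroupOf.1 h2

/-- Two generators modulo the next term generate the term. -/
theorem gam_le_closure {i : ℕ} (hi : 2 ≤ i) (hin : i < n) {y : G} (hy : y ∈ gam G i)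
    (hy' : y ∉ gam G (i + 1)) : gam G i ≤ Subgroup.closure ({y} ∪ (gam G (i + 1) : Set G)) :=
  MaxClassSylow.gen_le hn h3 hcl hi hin hy hy' (Subgroup.subset_closure (Or.inl rfl))
    fun _ hz => Subgroup.subset_closure (Or.inr hz)

variable (hp2 : p ≠ 2) (h7 : 7 ≤ n) {L : Subgroup G} {s e g : G} (h2L : gam G 2 ≤ L) (he : e ∈ L)
  (he2 : e ∉ twoStep G 2) (hg : g ∈ gam G 2) (hg3 : g ∉ gam G 3) (hse : s * e * s⁻¹ = g * e)
  (htop : ∀ K : Subgroup G, L ≤ K → s ∈ K → K = ⊤)
  (hgen : L ≤ Subgroup.closure ({e, g} ∪ (gam G 3 : Set G)))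
  (h46 : ∀ w ∈ gam G 4, ∀ x ∈ L, ⁅w, x⁆ ∈ gam G 6) (h4L : gam G 4 ≤ ⁅gam G 3, L⁆)
include hp2 h7 h2L he he2 hg hg3 hse htop hgen h46 h4L

/-- No automorphism inverts `L` modulo the third term and fixes the coset of `s`. -/
theorem no_inversion (β : G →* G) (hβg : g * β g ∈ gam G 3) (hβe : e * β e ∈ gam G 3)
    (hβs : s⁻¹ * β s ∈ L) : False := by
  set c := ⁅g, e⁆ with hc
  set A := ⁅c, e⁆ with hA
  set B := ⁅c, g⁆ with hB
  have h3' : gam G 3 ≤ L := (gam_anti (by omega)).trans h2L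
  have gc : ∀ {i j : ℕ} {a b : G}, a ∈ gam G i → b ∈ gam G j → ∀ {k : ℕ}, k ≤ i + j → ⁅a, b⁆ ∈ gam G k :=
    fun ha hb _ hk => gam_anti hk (gam_commutator ha hb)
  have gc1 : ∀ {i : ℕ} {a : G}, a ∈ gam G i → ∀ (b : G) {k : ℕ}, k ≤ i + 1 → ⁅a, b⁆ ∈ gam G k :=
    fun ha b _ hk => gc (j := 1) ha (Subgroup.mem_top b) hk
  have hc3 : c ∈ gam G 3 := gc1 hg e le_rfl
  have hc4 : c ∉ gam G 4 := MaxClassSylow.comm_not_mem hn h3 hcl le_rfl (by omega) he2 hg hg3
  have hA4 : A ∈ gam G 4 := gc1 hc3 e le_rfl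
  have hB5 : B ∈ gam G 5 := gc hc3 hg le_rfl
  have hC3 := gam_le_closure hn h3 hcl (i := 3) (by omega) (by omega) hc3 hc4
  -- the commutators of the generators
  have gens : ∀ (K : Subgroup G), L ≤ Subgroup.normalizer (K : Set G) → A ∈ K → B ∈ K →
      (∀ y ∈ gam G 3, ⁅c, y⁆ ∈ K) → (∀ w ∈ gam G 4, ∀ x ∈ L, ⁅w, x⁆ ∈ K) → gam G 4 ≤ K := by
    intro K hK hAK hBK h33 h4x
    refine h4L.trans (Subgroup.commutator_le.2 fun a ha b hb => ?_)
    refine comm_le_of_gens (X := {c} ∪ (gam G 4 : Set G)) (Y := {e, g} ∪ (gam G 3 : Set G))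
      ((Subgroup.closure_le _).2 ?_ |>.trans hK) ((Subgroup.closure_le _).2 ?_ |>.trans hK) ?_
      a (hC3 ha) b (hgen hb)
    · exact Set.union_subset (Set.singleton_subset_iff.2 (h3' hc3))
        fun w hw => h3' (gam_anti (by omega) hw)
    · refine Set.union_subset ?_ h3'
      rintro x (rfl | rfl)
      exacts [he, h2L hg]
    · rintro x (rfl | hx) y hy
      · rcases hy with (rfl | rfl) | hy
        exacts [hAK, hBK, h33 y hy]
      · refine h4x x hx y ?_
        rcases hy with (rfl | rfl) | hy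
        exacts [he, h2L hg, h3' hy]
  have norm : ∀ (K M : Subgroup G), M ≤ K → K ≤ gam G 4 → (∀ w ∈ gam G 4, ∀ x ∈ L, ⁅w, x⁆ ∈ M) →
      L ≤ Subgroup.normalizer (K : Set G) := by
    intro K M hMK hK4 h x hx
    refine MaxEss.mem_norm fun k hk => ?_
    rw [show x * k * x⁻¹ = ⁅k, x⁆⁻¹ * k by simp only [commutatorElement_def]; group]
    exact mul_mem (inv_mem (hMK (h k (hK4 hk) x hx))) hk
  have hA5 : A ∉ gam G 5 := fun h => MaxClassSylow.not_gam_le' hn h3 hcl (i := 4) (by omega) (by omega)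
    (gens (gam G 5) (by rw [Subgroup.normalizer_eq_top_iff.2 (gam_normal _)]; exact le_top) h hB5
      (fun y hy => gc hc3 hy (by omega)) fun w hw x hx => gam_anti (by omega) (h46 w hw x hx))
  -- the quotient by the sixth term
  set f6 := QuotientGroup.mk' (gam G 6) with hf6
  have one6 : ∀ {a : G}, a ∈ gam G 6 → f6 a = 1 := fun ha => (QuotientGroup.eq_one_iff _).2 ha
  have com6 : ∀ {a b : G}, ⁅a, b⁆ ∈ gam G 6 → Commute (f6 a) (f6 b) := fun h => by
    rw [Commute, SemiconjBy, ← commutatorElement_eq_one_iff_mul_comm, ← map_commutatorElement]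
    exact one6 h
  have hAp : A ^ p ∈ gam G 6 := by
    refine (QuotientGroup.eq_one_iff _).1 ?_
    show f6 (A ^ p) = 1
    have h := MaxClassLinear.comm_zpow_zpow (c := f6 c) (g := f6 e)
      (by rw [← map_commutatorElement]; exact com6 (h46 A hA4 c (h3' hc3)))
      (by rw [← map_commutatorElement]; exact com6 (h46 A hA4 e he)) (p : ℤ) 1
    rw [mul_one, zpow_natCast, zpow_one, zpow_natCast, ← map_pow, ← map_commutatorElement,
      ← map_commutatorElement, ← map_pow] at h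
    rw [← h]
    exact one6 (h46 _ (pow_mem_succ hn h3 hcl (by omega) (by omega) hc3) e he)
  have hB6 : B ∉ gam G 6 := by
    intro h
    obtain ⟨y, hy, hy'⟩ := SetLike.not_le_iff_exists.1
      (MaxClassSylow.not_gam_le' hn h3 hcl (i := 5) (by omega) (by omega))
    set K := Subgroup.zpowers A ⊔ gam G 6 with hK
    have h6K : gam G 6 ≤ K := le_sup_right
    have hle : gam G 4 ≤ K := gens K
      (norm K (gam G 6) h6K (sup_le (Subgroup.zpowers_le.2 hA4) (gam_anti (by omega))) h46)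
      (Subgroup.mem_sup_left (Subgroup.mem_zpowers A)) (h6K h)
      (fun y hy => h6K (gc hc3 hy le_rfl)) fun w hw x hx => h6K (h46 w hw x hx)
    haveI : (gam G 6).Normal := gam_normal 6
    obtain ⟨_, ⟨k, rfl⟩, z, hz, rfl⟩ := Subgroup.mem_sup_of_normal_right.1 (hle (gam_anti (by omega) hy))
    have hk : A ^ k ∈ gam G 5 := (Subgroup.mul_mem_cancel_right _ (gam_anti (by omega) hz)).1 hy
    obtain ⟨t, rfl⟩ := dvd_of_zpow_mem hp.out hA5 (gam_anti (by omega) hAp) hk
    refine hy' (mul_mem ?_ hz)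
    show A ^ ((p : ℤ) * t) ∈ gam G 6
    rw [zpow_mul, zpow_natCast]
    exact zpow_mem hAp t
  -- the quotient by the seventh term
  set f := QuotientGroup.mk' (gam G 7) with hf
  have one7 : ∀ {a : G}, a ∈ gam G 7 → f a = 1 := fun ha => (QuotientGroup.eq_one_iff _).2 ha
  have mem7 : ∀ {a : G}, f a = 1 → a ∈ gam G 7 := fun ha => (QuotientGroup.eq_one_iff _).1 ha
  have com7 : ∀ {a b : G}, ⁅a, b⁆ ∈ gam G 7 → Commute (f a) (f b) := fun h => by
    rw [Commute, SemiconjBy, ← commutatorElement_eq_one_iff_mul_comm, ← map_commutatorElement]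
    exact one7 h
  have cen : ∀ {a : G}, a ∈ gam G 6 → ∀ b, Commute (f a) (f b) := fun ha b => com7 (gc1 ha b le_rfl)
  have h33 : ∀ a ∈ gam G 3, ∀ b ∈ gam G 3, ⁅a, b⁆ ∈ gam G 7 := by
    intro a ha b hb
    haveI := gam_normal (G := G) 7
    refine comm_le_of_gens_normal ?_ a (hC3 ha) b (hC3 hb)
    rintro x (rfl | hx) y (rfl | hy)
    · rw [commutatorElement_self]; exact one_mem _
    · exact gc hc3 hy le_rfl
    · exact gc hx hc3 le_rfl
    · exact gc hx hy (by omega)
  have hA3 : A ∈ gam G 3 := gam_anti (by omega) hA4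
  have hB3 : B ∈ gam G 3 := gam_anti (by omega) hB5
  have hAB : Commute (f A) (f B) := com7 (h33 _ hA3 _ hB3)
  -- symmetry
  have hsym : f ⁅B, e⁆ = f ⁅A, g⁆ := by
    have huc : ∀ {x y : G}, ⁅x, y⁆ ∈ gam G 6 → f ⁅y, x⁻¹⁆ = f ⁅x, y⁆ := fun {x y} h => by
      rw [show ⁅y, x⁻¹⁆ = x⁻¹ * ⁅x, y⁆ * x by simp only [commutatorElement_def]; group, map_mul, map_mul,
        (cen h x⁻¹).symm.eq, mul_assoc, ← map_mul, inv_mul_cancel, map_one, mul_one]
    rw [← huc (gc1 hB5 e le_rfl), ← huc (gc hA4 hg le_rfl)]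
    have h0 : ∀ x : G, e * (g * x * g⁻¹) * e⁻¹ = c⁻¹ * (g * (e * x * e⁻¹) * g⁻¹) * c := fun x => by
      rw [hc, commutatorElement_def]; group
    have h1 := congrArg f (h0 c)
    rw [show e * (g * c * g⁻¹) * e⁻¹ = ⁅e, B⁻¹⁆ * B⁻¹ * (A⁻¹ * c) by
        rw [hA, hB]; simp only [commutatorElement_def]; group,
      show g * (e * c * e⁻¹) * g⁻¹ = ⁅g, A⁻¹⁆ * A⁻¹ * (B⁻¹ * c) by
        rw [hA, hB]; simp only [commutatorElement_def]; group] at h1
    have hX : Commute (f c) (f (⁅g, A⁻¹⁆ * A⁻¹ * (B⁻¹ * c))) := com7 (h33 _ hc3 _ (mul_mem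
      (mul_mem (comm_mem_symm (gc (j := 1) (inv_mem hA3) (Subgroup.mem_top g) (by omega))) (inv_mem hA3))
      (mul_mem (inv_mem hB3) hc3)))
    rw [map_mul f (c⁻¹ * _) c, map_mul f c⁻¹, mul_assoc (f c⁻¹), ← hX.eq, map_inv f c,
      inv_mul_cancel_left] at h1
    simp only [map_mul, map_inv] at h1
    rw [← mul_assoc, ← mul_assoc, mul_left_inj, mul_assoc, mul_assoc, (hAB.inv_inv).eq, mul_left_inj] at h1
    exact h1
  -- the effect of conjugation by `s`
  have hsA : ∃ y ∈ gam G 6, s * A * s⁻¹ = B * A * y := by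
    refine ⟨(B * A)⁻¹ * (s * A * s⁻¹), (QuotientGroup.eq_one_iff _).1 ?_, (mul_inv_cancel_left _ _).symm⟩
    show f6 _ = 1
    rw [map_mul, map_inv, inv_mul_eq_one]
    have hw : ⁅s, c⁆ ∈ gam G 4 := comm_mem_symm (gc1 hc3 s le_rfl)
    have hse' : s * A * s⁻¹ = ⁅⁅s, c⁆ * c, g * e⁆ := by
      rw [← hse, hA]; simp only [commutatorElement_def]; group
    have hge : g * e ∈ L := mul_mem (h2L hg) he
    rw [hse', map_commutatorElement, map_mul f6 ⁅s, c⁆, comm_mul_left', map_mul f6 g,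
      comm_mul_right', ← map_mul, ← map_commutatorElement f6 ⁅s, c⁆, one6 (h46 _ hw _ hge), mul_one,
      ← map_commutatorElement, ← map_commutatorElement, ← map_mul]
    · rw [← map_commutatorElement]
      exact (com6 (h46 _ hA4 _ (h2L hg))).symm
    · rw [← map_commutatorElement]
      exact com6 (h46 _ hw _ (h3' (gc1 hc3 (g * e) (by omega))))
  have hprod : f ⁅B, e⁆ * f ⁅A, g⁆ = 1 := by
    obtain ⟨y, hy, hy'⟩ := hsA
    have h1 : f ⁅B * A * y, g * e⁆ = f ⁅A, e⁆ := by
      rw [← hy', ← hse, show ⁅s * A * s⁻¹, s * e * s⁻¹⁆ = s * ⁅A, e⁆ * s⁻¹ by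
        simp only [commutatorElement_def]; group, map_mul, map_mul, ← (cen (h46 _ hA4 _ he) s).eq, mul_assoc,
        ← map_mul, mul_inv_cancel, map_one, mul_one]
    have hAg : ∀ b, Commute (f ⁅A, g⁆) (f b) := cen (gc hA4 hg le_rfl)
    have hBg : f ⁅B, g⁆ = 1 := one7 (gc hB5 hg le_rfl)
    have hAge : Commute (f B) (f ⁅A, g * e⁆) := (cen (h46 _ hA4 _ (mul_mem (h2L hg) he)) B).symm
    rw [map_commutatorElement, map_mul f (B * A) y, comm_mul_left' (by
        rw [← map_commutatorElement]; exact (cen (gc1 hy (g * e) (by omega)) _).symm),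
      ← map_commutatorElement, ← map_commutatorElement, one7 (gc1 hy (g * e) le_rfl), one_mul,
      map_commutatorElement, map_mul f B A,
      comm_mul_left' (by rw [← map_commutatorElement]; exact hAge), map_mul f g e,
      comm_mul_right' (x := f B) (by rw [← map_commutatorElement]; exact (cen (gc1 hB5 e le_rfl) g).symm),
      comm_mul_right' (x := f A) (by rw [← map_commutatorElement]; exact (cen (h46 _ hA4 _ he) g).symm),
      ← map_commutatorElement, ← map_commutatorElement, ← map_commutatorElement, ← map_commutatorElement,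
      hBg, one_mul, (hAg _).eq, mul_assoc, mul_eq_left] at h1
    rw [← (hAg ⁅B, e⁆).eq]
    exact h1
  have sq : ∀ {x : G}, x ∈ gam G 6 → f x * f x = 1 → x ∈ gam G 7 := fun {x} hx h => by
    by_contra hne
    rw [← map_mul, ← sq] at h
    have h2 := dvd_of_zpow_mem (k := 2) hp.out hne (pow_mem_succ hn h3 hcl (by omega) (by omega) hx)
      (by rw [show (2 : ℤ) = ((2 : ℕ) : ℤ) from rfl, zpow_natCast]; exact mem7 h)
    exact hp2 ((Nat.prime_dvd_prime_iff_eq hp.out Nat.prime_two).1 (Int.natCast_dvd_natCast.1 h2))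
  have hBe : ⁅B, e⁆ ∈ gam G 7 := sq (gc1 hB5 e le_rfl) (by
    conv_lhs => arg 2; rw [hsym]
    exact hprod)
  have hAg : ⁅A, g⁆ ∈ gam G 7 := mem7 (hsym ▸ one7 hBe)
  have hC5 := gam_le_closure hn h3 hcl (i := 5) (by omega) (by omega) hB5 hB6
  have h57 : ∀ w ∈ gam G 5, ∀ x ∈ L, ⁅w, x⁆ ∈ gam G 7 := by
    intro w hw x hx
    haveI := gam_normal (G := G) 7
    refine comm_le_of_gens_normal ?_ w (hC5 hw) x (hgen hx)
    rintro a (rfl | ha) y hy
    · rcases hy with (rfl | rfl) | hy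
      exacts [hBe, gc hB5 hg le_rfl, gc hB5 hy (by omega)]
    · exact gc1 ha y le_rfl
  have hBp : B ^ p ∈ gam G 7 := by
    refine mem7 ?_
    have h := MaxClassLinear.comm_zpow_zpow (c := f c) (g := f g)
      (by rw [← map_commutatorElement]; exact com7 (gc hB5 hc3 (by omega)))
      (by rw [← map_commutatorElement]; exact com7 (gc hB5 hg le_rfl)) (p : ℤ) 1
    rw [mul_one, zpow_natCast, zpow_one, zpow_natCast, ← map_pow, ← map_commutatorElement,
      ← map_commutatorElement, ← map_pow] at h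
    rw [← h]
    haveI := gam_normal (G := G) 7
    refine one7 (comm_le_of_gens_normal (X := ({A} : Set G) ∪ (gam G 5 : Set G)) (Y := {g}) ?_ _
      (gam_le_closure hn h3 hcl (i := 4) (by omega) (by omega) hA4 hA5
        (pow_mem_succ hn h3 hcl (by omega) (by omega) hc3)) g (Subgroup.subset_closure (Set.mem_singleton g)))
    rintro b (rfl | hb) _ rfl
    exacts [hAg, gc hb hg le_rfl]
  -- the element generating the sixth term
  have hAe : ⁅A, e⁆ ∉ gam G 7 := by
    intro hAe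
    have hC4 := gam_le_closure hn h3 hcl (i := 4) (by omega) (by omega) hA4 hA5
    have h47 : ∀ w ∈ gam G 4, ∀ x ∈ L, ⁅w, x⁆ ∈ gam G 7 := by
      intro w hw x hx
      haveI := gam_normal (G := G) 7
      refine comm_le_of_gens_normal ?_ w (hC4 hw) x (hgen hx)
      rintro a (rfl | ha) y hy
      · rcases hy with (rfl | rfl) | hy
        exacts [hAe, hAg, gc hA4 hy le_rfl]
      · refine h57 a ha y ?_
        rcases hy with (rfl | rfl) | hy
        exacts [he, h2L hg, h3' hy]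
    have hAp7 : A ^ p ∈ gam G 7 := by
      refine mem7 ?_
      have h := MaxClassLinear.comm_zpow_zpow (c := f c) (g := f e)
        (by rw [← map_commutatorElement]; exact com7 (h47 A hA4 c (h3' hc3)))
        (by rw [← map_commutatorElement]; exact com7 (h47 A hA4 e he)) (p : ℤ) 1
      rw [mul_one, zpow_natCast, zpow_one, zpow_natCast, ← map_pow, ← map_commutatorElement,
        ← map_commutatorElement, ← map_pow] at h
      rw [← h]
      exact one7 (h47 _ (pow_mem_succ hn h3 hcl (by omega) (by omega) hc3) e he)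
    obtain ⟨y, hy, hy'⟩ := SetLike.not_le_iff_exists.1
      (MaxClassSylow.not_gam_le' hn h3 hcl (i := 6) (by omega) (by omega))
    set K := Subgroup.closure ({A, B} : Set G) ⊔ gam G 7 with hK
    have h7K : gam G 7 ≤ K := le_sup_right
    have hK4 : K ≤ gam G 4 := sup_le ((Subgroup.closure_le _).2 (by
      rintro x (rfl | rfl)
      exacts [hA4, gam_anti (by omega) hB5])) (gam_anti (by omega))
    have hle : gam G 4 ≤ K := gens K (norm K (gam G 7) h7K hK4 h47)
      (Subgroup.mem_sup_left (Subgroup.subset_closure (Or.inl rfl)))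
      (Subgroup.mem_sup_left (Subgroup.subset_closure (Or.inr rfl)))
      (fun y hy => h7K (h33 _ hc3 _ hy)) fun w hw x hx => h7K (h47 w hw x hx)
    obtain ⟨i, j, hij⟩ := exists_pair hAB (show f y ∈ Subgroup.closure ({f A, f B} : Set _) by
      have h1 := Subgroup.mem_map_of_mem f (hle (gam_anti (by omega) hy))
      rwa [hK, Subgroup.map_sup, MonoidHom.map_closure, Set.image_pair,
        show (gam G 7).map f = ⊥ from QuotientGroup.map_mk'_self _, sup_bot_eq] at h1)
    rw [← map_zpow, ← map_zpow, ← map_mul] at hij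
    have hz : (A ^ i * B ^ j)⁻¹ * y ∈ gam G 7 := mem7 (by rw [map_mul, map_inv, hij, inv_mul_cancel])
    have hi : A ^ i ∈ gam G 5 := by
      have h1 := mul_mem (mul_mem hy (gam_anti (by omega : 6 ≤ 7) (inv_mem hz))) (one_mem (gam G 6))
      rw [mul_one, _root_.mul_inv_rev, inv_inv, mul_inv_cancel_left] at h1
      exact (Subgroup.mul_mem_cancel_right _ (zpow_mem hB5 j)).1 (gam_anti (by omega) h1)
    obtain ⟨t, rfl⟩ := dvd_of_zpow_mem hp.out hA5 (gam_anti (by omega) hAp7) hi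
    have hi7 : A ^ ((p : ℤ) * t) ∈ gam G 7 := by rw [zpow_mul, zpow_natCast]; exact zpow_mem hAp7 t
    have hj : B ^ j ∈ gam G 6 := by
      have h1 := mul_mem hy (gam_anti (by omega : 6 ≤ 7) (inv_mem hz))
      rw [_root_.mul_inv_rev, inv_inv, mul_inv_cancel_left] at h1
      exact (Subgroup.mul_mem_cancel_left _ (gam_anti (by omega) hi7)).1 h1
    obtain ⟨t', rfl⟩ := dvd_of_zpow_mem hp.out hB6 (gam_anti (by omega) hBp) hj
    refine hy' ?_
    rw [← mul_inv_cancel_left (A ^ ((p : ℤ) * t) * B ^ ((p : ℤ) * t')) y]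
    refine mul_mem (mul_mem hi7 ?_) hz
    rw [zpow_mul, zpow_natCast]
    exact zpow_mem hBp t'
  -- the action of `β`
  have hβmem : ∀ {i : ℕ} {x : G}, x ∈ gam G i → β x ∈ gam G i := fun hx =>
    MaxClassLinear.gam_map_le β _ (Subgroup.mem_map_of_mem β hx)
  obtain ⟨v, hv, hve⟩ : ∃ v ∈ gam G 3, β e = e⁻¹ * v := ⟨_, hβe, (inv_mul_cancel_left _ _).symm⟩
  obtain ⟨u, hu, hug⟩ : ∃ u ∈ gam G 3, β g = g⁻¹ * u := ⟨_, hβg, (inv_mul_cancel_left _ _).symm⟩
  have hwc : ∃ w ∈ gam G 4, β c = c * w := by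
    refine ⟨c⁻¹ * β c, (QuotientGroup.eq_one_iff _).1 ?_, (mul_inv_cancel_left _ _).symm⟩
    show QuotientGroup.mk' (gam G 4) _ = 1
    haveI := gam_normal (G := G) 4
    rw [map_mul, map_inv, inv_mul_eq_one, hc, map_commutatorElement β, hug, hve,
      comm_congr_mod (gc1 hu _ le_rfl) (gc1 hu _ le_rfl) (comm_mem_symm (gc1 hv _ le_rfl))]
    have h := MaxClassLinear.comm_zpow_zpow (c := QuotientGroup.mk' (gam G 4) g) (g := QuotientGroup.mk' (gam G 4) e)
      ?_ ?_ (-1) (-1)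
    · rw [show ((-1 : ℤ) * -1) = 1 by norm_num, zpow_one, zpow_neg_one, zpow_neg_one, ← map_inv, ← map_inv,
        ← map_commutatorElement, ← map_commutatorElement] at h
      exact h.symm
    all_goals
      rw [← map_commutatorElement, Commute, SemiconjBy, ← commutatorElement_eq_one_iff_mul_comm,
        ← map_commutatorElement]
      exact (QuotientGroup.eq_one_iff _).2 (gc1 hc3 _ le_rfl)
  obtain ⟨w, hw, hwc⟩ := hwc
  have hβAB : ∀ (x : G) (v : G), x ∈ L → v ∈ gam G 3 → β x = x⁻¹ * v →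
      ∃ y ∈ gam G 6, β ⁅c, x⁆ = ⁅c, x⁆⁻¹ * y := by
    intro x v hxL hv hx
    refine ⟨⁅c, x⁆ * β ⁅c, x⁆, (QuotientGroup.eq_one_iff _).1 ?_, (inv_mul_cancel_left _ _).symm⟩
    show f6 _ = 1
    have h4' := gc1 hc3 x (le_refl 4)
    have h := MaxClassLinear.comm_zpow_zpow (c := f6 c) (g := f6 x)
      (by rw [← map_commutatorElement]; exact com6 (h46 _ h4' c (h3' hc3)))
      (by rw [← map_commutatorElement]; exact com6 (h46 _ h4' x hxL)) 1 (-1)
    rw [one_mul, zpow_one, zpow_neg_one, zpow_neg_one, ← map_inv, ← map_commutatorElement,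
      ← map_commutatorElement, ← map_inv] at h
    rw [map_mul, map_commutatorElement β, hwc, hx,
      comm_congr_mod (h46 w hw _ (inv_mem hxL)) (h46 w hw _ (h3' hv)) (gc hc3 hv le_rfl), h, map_inv,
      mul_inv_cancel]
  obtain ⟨yA, hyA, hβA⟩ := hβAB e v he hv hve
  obtain ⟨yB, hyB, hβB⟩ := hβAB g u (h2L hg) hu hug
  have hfix : ∀ x ∈ gam G 6, f (β x) = f x := by
    have hx0 : f (β ⁅A, e⁆) = f ⁅A, e⁆ := by
      rw [map_commutatorElement β, hβA, hve,
        comm_congr_mod (gc1 hyA _ le_rfl) (gc1 hyA _ le_rfl) (gc (inv_mem hA4) hv le_rfl),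
        map_commutatorElement f A⁻¹, map_inv, map_inv]
      have hz : ∀ b, Commute ⁅f A, f e⁆ (f b) := fun b => by
        rw [← map_commutatorElement]; exact cen (h46 _ hA4 _ he) b
      have h := MaxClassLinear.comm_zpow_zpow (hz A) (hz e) (-1) (-1)
      rw [show ((-1 : ℤ) * -1) = 1 by norm_num, zpow_one, zpow_neg_one, zpow_neg_one,
        ← map_commutatorElement f A e] at h
      exact h
    have hle : gam G 6 ≤ MonoidHom.eqLocus (f.comp β) f :=
      MaxClassSylow.gen_le hn h3 hcl (by omega) (by omega) (h46 _ hA4 _ he) hAe hx0 fun z hz => by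
        show f (β z) = f z
        rw [one7 hz, one7 (hβmem hz)]
    exact fun x hx => hle hx
  -- the final commutator
  have hs5 : s ∉ twoStep G 5 := fun h => MaxClassSylow.twoStep_ne_top hn h3 hcl (by omega) (by omega)
    (htop _ (fun x hx w hw => h57 w hw x hx) h)
  set t := ⁅B, s⁆ with ht
  have ht6 : t ∈ gam G 6 := gc1 hB5 s le_rfl
  refine MaxClassSylow.comm_not_mem hn h3 hcl (by omega) (by omega) hs5 hB5 hB6 (sq ht6 ?_)
  obtain ⟨l, hl, hls⟩ : ∃ l ∈ L, β s = s * l := ⟨_, hβs, (mul_inv_cancel_left _ _).symm⟩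
  have h1 := hfix t ht6
  rw [ht, map_commutatorElement β, hβB, hls,
    comm_congr_mod (gc1 hyB _ le_rfl) (gc1 hyB _ le_rfl) (h57 _ (inv_mem hB5) _ hl),
    map_commutatorElement f B⁻¹, map_inv] at h1
  have hz : ∀ b, Commute ⁅f B, f s⁆ (f b) := fun b => by rw [← map_commutatorElement]; exact cen ht6 b
  have h := MaxClassLinear.comm_zpow_zpow (hz B) (hz s) (-1) 1
  rw [mul_one, zpow_one, zpow_neg_one, zpow_neg_one, ← map_commutatorElement f B s, h1] at h
  exact mul_eq_one_iff_eq_inv.2 h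

end Cfsg.Agent.MaxNormal
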