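import Cfsg.Agent.Lib.MaxNormal.Index
import Cfsg.Agent.Lib.MaxNormal.Levels
import Cfsg.Agent.S5186
import Cfsg.Agent.S5270
import Cfsg.Agent.S5316

/-!
An essential subgroup of index `p` of a group of maximal class is `Γ₁`, the centralizer of the second
centre, or extraspecial of order `p ^ 3`.
-/

set_option autoImplicit false
set_option linter.style.haveILetI false
set_option linter.unusedSectionVars false

namespace Cfsg.Agent.MaxNormal

open Cfsg Cfsg.FusionSystem Cfsg.Agent Cfsg.Agent.FusionSys Cfsg.Agent.MaxEss Cfsg.Agent.PolySeq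
open Cfsg.Agent.S4144 (twoStep gam_two_eq gam_two_le)
open scoped commutatorElement

variable {Ω : Type*} [Group Ω] {S : Subgroup Ω} [Finite S] {F : FusionSystem S} {p n : ℕ} [hp : Fact p.Prime]

variable (F) in
/-- `K` is invariant under the automizer of `L`. -/
def InvA (L K : Subgroup S) : Prop :=
  ∀ a ∈ autL F L, ∀ x : L, (x : S) ∈ K → ((a x : L) : S) ∈ K

theorem InvA.comm {L K : Subgroup S} (hK : K ≤ L) (h : InvA F L K) : InvA F L ⁅K, L⁆ := by
  intro a ha x hx
  have he : ⁅K, L⁆ = (⁅K.subgroupOf L, (⊤ : Subgroup L)⁆).map L.subtype := by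
    rw [Subgroup.map_commutator, Subgroup.map_subgroupOf_eq_of_le hK, ← MonoidHom.range_eq_map,
      Subgroup.range_subtype]
  rw [he] at hx ⊢
  obtain ⟨y, hy, hye⟩ := hx
  obtain rfl : y = x := Subtype.ext hye
  refine ⟨a y, ?_, rfl⟩
  have h1 := Subgroup.mem_map_of_mem a.toMonoidHom hy
  rw [Subgroup.map_commutator, Subgroup.map_top_of_surjective _ a.surjective] at h1
  refine Subgroup.commutator_mono ?_ le_rfl h1
  rintro _ ⟨z, hz, rfl⟩
  exact Subgroup.mem_subgroupOf.2 (h a ha z (Subgroup.mem_subgroupOf.1 hz))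

variable (hS : IsPGroup p S) (hF : F.IsSaturated p) (hn : Nat.card S = p ^ n) (h4 : 4 ≤ n)
  (hcl : Group.nilpotencyClass S = n - 1) (h5 : 5 ≤ p) {L : Subgroup S} [hLn : L.Normal]
  (hE : F.IsEssential p (om L)) (hidx : L.index = p)

include hidx in
theorem gam_two_le_max : gam S 2 ≤ L := by
  rw [gam_two_eq, commutator_def, Subgroup.commutator_le]
  intro a _ b _
  have hc : Nat.card (S ⧸ L) = p := by rw [← Subgroup.index_eq_card, hidx]
  haveI : IsCyclic (S ⧸ L) := isCyclic_of_prime_card hc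
  refine (QuotientGroup.eq_one_iff _).1 ?_
  show QuotientGroup.mk' L ⁅a, b⁆ = 1
  rw [map_commutatorElement, commutatorElement_eq_one_iff_mul_comm]
  letI := IsCyclic.commGroup (α := S ⧸ L)
  exact mul_comm _ _

include hidx in
theorem eq_top_of_max {K : Subgroup S} {s : S} (hsL : s ∉ L) (hle : L ≤ K) (hs : s ∈ K) : K = ⊤ := by
  have hd : K.index ∣ p := hidx ▸ Subgroup.index_dvd_of_le hle
  rcases (Nat.dvd_prime hp.out).1 hd with h | h
  · exact Subgroup.index_eq_one.1 h
  · exfalso
    have hlt : L < K := SetLike.lt_iff_le_and_exists.2 ⟨hle, s, hs, hsL⟩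
    have := Subgroup.index_strictAnti hlt
    omega

include hn h4 hcl hidx in
theorem le_closure_max {e : S} (he : e ∈ L) (he2 : e ∉ gam S 2) :
    L ≤ Subgroup.closure ({e} ∪ (gam S 2 : Set S)) := by
  have h3 : 3 ≤ n := by omega
  set K := Subgroup.closure ({e} ∪ (gam S 2 : Set S)) with hK
  have hKL : K ≤ L := (Subgroup.closure_le _).2
    (Set.union_subset (Set.singleton_subset_iff.2 he) (gam_two_le_max hidx))
  refine (Subgroup.eq_of_le_of_card_ge hKL ?_).ge
  obtain ⟨a, ha⟩ := IsPGroup.iff_card.1 ((IsPGroup.of_card hn).to_subgroup K)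
  have h1 : p ^ (n - 2) < p ^ a := by
    rw [← ha, ← S3806.card_gam hn h3 hcl le_rfl (by omega)]
    exact Set.ncard_lt_ncard (SetLike.coe_ssubset_coe.2 (SetLike.lt_iff_le_and_exists.2
      ⟨fun z hz => Subgroup.subset_closure (Or.inr hz), e, Subgroup.subset_closure (Or.inl rfl), he2⟩))
      (Set.toFinite _)
  have := (Nat.pow_lt_pow_iff_right hp.out.one_lt).1 h1
  have hL := L.card_mul_index
  rw [hidx, hn, show n = n - 1 + 1 by omega, pow_succ] at hL
  rw [Nat.eq_of_mul_eq_mul_right hp.out.pos hL, ha]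
  exact Nat.pow_le_pow_right hp.out.pos (by omega)

include hS hF hn h4 hcl h5 hE hidx in
/-- The classification of the essential subgroups of index `p`. -/
theorem max_cases :
    L = twoStep S 2 ∨ L = Subgroup.centralizer (Subgroup.upperCentralSeries S 2 : Set S) ∨
      (n = 4 ∧ Nat.card (om L) = p ^ 3 ∧ IsExtraspecial p (om L) ∧ Monoid.exponent (om L) = p) := by
  classical
  by_cases hL2 : L = twoStep S 2
  · exact Or.inl hL2
  refine Or.inr ?_
  have h3 : 3 ≤ n := by omega
  haveI := finite_of_le (om_le L)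
  have hcen : Subgroup.centralizer (L : Set S) ≤ L := by
    have h := centralizerIn_le_of_centric hE.1
    rw [centralizerIn_om] at h
    exact (Subgroup.map_le_map_iff_of_injective S.subtype_injective).1 h
  have h2L := gam_two_le_max hidx
  have h3L : gam S 3 ≤ L := (gam_anti (by omega)).trans h2L
  obtain ⟨s, -, hsL⟩ := SetLike.exists_of_lt (show L < ⊤ from lt_top_iff_ne_top.2 fun h => by
    rw [h, Subgroup.index_top] at hidx; exact hp.out.ne_one hidx.symm)
  obtain ⟨e, he, he2⟩ : ∃ e ∈ L, e ∉ twoStep S 2 := by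
    by_contra! hle
    refine hL2 (le_antisymm hle fun x hx => ?_)
    by_contra hxL
    exact MaxClassSylow.twoStep_ne_top hn h3 hcl le_rfl (by omega) (eq_top_of_max hidx hxL hle hx)
  have heg : e ∉ gam S 2 := fun h => he2 (gam_two_le 2 h)
  have hLe := le_closure_max hn h4 hcl hidx he heg
  set g := ⁅s, e⁆ with hgdef
  have hg : g ∈ gam S 2 := gam_commutator (i := 1) (j := 1) (Subgroup.mem_top s) (Subgroup.mem_top e)
  have hg3 : g ∉ gam S 3 := by
    intro h
    refine MaxClassSylow.not_gam_le' hn h3 hcl (le_refl 2) (by omega) ?_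
    rw [show gam S 2 = ⁅gam S 1, (⊤ : Subgroup S)⁆ from MaxClassLinear.gam_step le_rfl, Subgroup.commutator_le]
    haveI := gam_normal (G := S) 3
    set X : Set S := {s, e} ∪ (gam S 2 : Set S) with hX
    have htop : Subgroup.closure X = ⊤ := eq_top_of_max hidx hsL
      (hLe.trans (Subgroup.closure_mono (Set.union_subset_union_left _ (by simp))))
      (Subgroup.subset_closure (Or.inl (Or.inl rfl)))
    intro a _ b _
    refine comm_le_of_gens_normal (X := X) (Y := X) ?_ a (htop ▸ Subgroup.mem_top a) b (htop ▸ Subgroup.mem_top b)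
    rintro x ((rfl | rfl) | hx) y ((rfl | rfl) | hy)
    all_goals first
      | (rw [commutatorElement_self]; exact one_mem _)
      | exact h
      | exact comm_mem_symm h
      | exact gam_commutator (j := 1) hx (Subgroup.mem_top _)
      | exact gam_commutator (i := 1) (Subgroup.mem_top _) hy
  have hgen : L ≤ Subgroup.closure ({e, g} ∪ (gam S 3 : Set S)) := by
    refine hLe.trans ((Subgroup.closure_le _).2 (Set.union_subset ?_ ?_))
    · exact Set.singleton_subset_iff.2 (Subgroup.subset_closure (Or.inl (Or.inl rfl)))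
    · exact (gam_le_closure hn h3 hcl le_rfl (by omega) hg hg3).trans
        (Subgroup.closure_mono (Set.union_subset_union_left _ (by simp)))
  set c := ⁅g, e⁆ with hcdef
  have hc3 : c ∈ gam S 3 := gam_commutator (j := 1) hg (Subgroup.mem_top e)
  have hc4 : c ∉ gam S 4 := MaxClassSylow.comm_not_mem hn h3 hcl le_rfl (by omega) he2 hg hg3
  -- the Frattini subgroup
  have hLp := hS.to_subgroup L
  haveI := hLp.isNilpotent
  set Φ := frattini L with hΦdef
  haveI hΦc : Φ.Characteristic := frattini_characteristic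
  have h23 : gam S 3 ≤ ⁅gam S 2, L⁆ := by
    haveI := gam_normal (G := S) 2
    obtain ⟨m, hm, -, hm'⟩ := exists_level hn h3 hcl ⁅gam S 2, L⁆ le_rfl (by omega)
      (Subgroup.commutator_le_left _ _)
    rw [hm']
    refine gam_anti ?_
    by_contra hlt
    exact hc4 (gam_anti (show 4 ≤ m by omega) (hm' ▸ Subgroup.commutator_mem_commutator hg he))
  have hΦ3 : Φ.map L.subtype = gam S 3 := by
    have hnc : ¬ IsCyclic L := fun h => by
      haveI := h
      exact S5316.not_cyclic hS hF hE (isCyclic_of_surjective (eL L) (eL L).surjective)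
    have h1 : p ^ 3 ≤ (Φ.map L.subtype).index := by
      rw [Subgroup.index_map_subtype, hidx, pow_succ]
      exact Nat.mul_le_mul_right _ (Nat.le_of_dvd (Nat.pos_of_ne_zero Subgroup.index_ne_zero_of_finite)
        (MaximalCount.sq_dvd_index_frattini hLp hnc))
    obtain ⟨m, hm2, hmn, hm⟩ := exists_eq_gam hn h3 hcl (Φ.map L.subtype)
      ((Nat.pow_le_pow_right hp.out.pos (by omega)).trans h1)
    rw [hm, index_gam hn h3 hcl hm2 hmn] at h1
    refine le_antisymm (hm ▸ gam_anti ((Nat.pow_le_pow_iff_right hp.out.one_lt).1 h1)) (h23.trans ?_)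
    refine (Subgroup.commutator_mono h2L le_rfl).trans ?_
    rw [← Subgroup.map_subtype_commutator]
    exact Subgroup.map_mono (Cfsg.Agent.SolvStruct.commutator_le_frattini L)
  have hmem : ∀ x : L, x ∈ Φ ↔ (x : S) ∈ gam S 3 := fun x => by
    rw [← hΦ3]
    exact (Subgroup.mem_map_iff_mem L.subtype_injective).symm
  have inv3 : InvA F L (gam S 3) := fun a _ x hx =>
    (hmem _).1 (Subgroup.characteristic_iff_le_comap.1 hΦc a ((hmem x).2 hx))
  letI : CommGroup (L ⧸ Φ) := commGroupFrattini hLp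
  have hexp : ∀ v : L ⧸ Φ, v ^ p = 1 := (MaximalCount.quotient_elementary hLp Φ le_rfl).2
  have hmk : ∀ x y : L, (x : L ⧸ Φ) = y ↔ (x : S)⁻¹ * y ∈ gam S 3 := fun x y =>
    QuotientGroup.eq.trans (hmem _)
  -- `γ₂` is not invariant
  have notinv : ¬ InvA F L (gam S 2) := by
    intro hinv
    refine not_isPGroup_commutator_autGroup hS hF hE ?_
    let C : ℕ → Subgroup (L ⧸ Φ) := fun i =>
      if i = 0 then ⊥ else if i = 1 then ((gam S 2).subgroupOf L).map (QuotientGroup.mk' Φ) else ⊤
    have hrange : IsPGroup p (commutator (theta F L).range) := by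
      refine isPGroup_commutator_of_invariant (hLp.to_quotient Φ) C 2 rfl rfl _
        (fun i => ⟨fun x hx y => by rw [mul_comm y x, mul_inv_cancel_right]; exact hx⟩) ?_ ?_
      · rintro i _ ⟨a, rfl⟩ v
        show v ∈ (if i = 0 then ⊥ else if i = 1 then ((gam S 2).subgroupOf L).map (QuotientGroup.mk' Φ) else ⊤) →
          theta F L a v ∈
            (if i = 0 then ⊥ else if i = 1 then ((gam S 2).subgroupOf L).map (QuotientGroup.mk' Φ) else ⊤)
        split_ifs
        · intro hv
          rw [Subgroup.mem_bot.1 hv, map_one]; exact one_mem _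
        · rintro ⟨x, hx, rfl⟩
          exact ⟨(a : MulAut L) x, Subgroup.mem_subgroupOf.2 (hinv _ a.2 x (Subgroup.mem_subgroupOf.1 hx)), rfl⟩
        · exact fun _ => Subgroup.mem_top _
      · haveI := gam_normal (G := S) 3
        haveI := gam_normal (G := S) 2
        intro i hi
        interval_cases i
        · refine ⟨((⟨g, h2L hg⟩ : L) : L ⧸ Φ), ⟨⟨g, h2L hg⟩, Subgroup.mem_subgroupOf.2 hg, rfl⟩, ?_⟩
          rintro _ ⟨x, hx, rfl⟩
          obtain ⟨_, ⟨k, rfl⟩, z, hz, hkz⟩ := Subgroup.mem_sup_of_normal_right.1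
            (S3806.gam_gen hn h3 hcl le_rfl (by omega) hg hg3 (Subgroup.mem_subgroupOf.1 hx))
          refine ⟨k, ?_⟩
          show _ ∈ (⊥ : Subgroup (L ⧸ Φ))
          rw [Subgroup.mem_bot, mul_inv_eq_one, QuotientGroup.mk'_apply, ← QuotientGroup.mk_zpow]
          refine ((hmk _ _).2 ?_).symm
          rw [Subgroup.coe_zpow, ← hkz]
          show (g ^ k)⁻¹ * (g ^ k * z) ∈ _
          rw [inv_mul_cancel_left]; exact hz
        · refine ⟨((⟨e, he⟩ : L) : L ⧸ Φ), Subgroup.mem_top _, fun v _ => ?_⟩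
          obtain ⟨x, rfl⟩ := QuotientGroup.mk'_surjective Φ v
          have h1 : (x : S) ∈ Subgroup.zpowers e ⊔ gam S 2 :=
            (Subgroup.closure_le _).2 (Set.union_subset (Set.singleton_subset_iff.2
              (Subgroup.mem_sup_left (Subgroup.mem_zpowers e))) fun z hz => Subgroup.mem_sup_right hz) (hLe x.2)
          obtain ⟨_, ⟨k, rfl⟩, z, hz, hkz⟩ := Subgroup.mem_sup_of_normal_right.1 h1
          refine ⟨k, ⟨⟨z, h2L hz⟩, Subgroup.mem_subgroupOf.2 hz, ?_⟩⟩
          rw [eq_mul_inv_iff_mul_eq, QuotientGroup.mk'_apply, QuotientGroup.mk'_apply, ← QuotientGroup.mk_zpow,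
            mul_comm, ← QuotientGroup.mk_mul]
          exact congrArg _ (Subtype.ext hkz)
    have h3' : (commutator (autL F L)).map (theta F L).rangeRestrict ≤ commutator (theta F L).range := by
      rw [commutator_def, commutator_def, Subgroup.map_commutator]
      exact Subgroup.commutator_mono le_top le_top
    have hk : IsPGroup p (theta F L).rangeRestrict.ker := by
      rw [MonoidHom.ker_rangeRestrict]; exact theta_ker_pGroup hS L
    have h := ((hrange.comap_of_ker_isPGroup _ hk).to_le (Subgroup.map_le_iff_le_comap.1 h3')).map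
      (autEquiv (F := F) L).toMonoidHom
    rwa [show (commutator (autL F L)).map (autEquiv (F := F) L).toMonoidHom =
      commutator (F.autGroup (om L)) by
        rw [commutator_def, commutator_def, Subgroup.map_commutator,
          Subgroup.map_top_of_surjective _ (autEquiv (F := F) L).surjective]] at h
  -- order p ^ 4
  rcases eq_or_lt_of_le h4 with hn4 | hn5
  · refine Or.inr ⟨hn4.symm, ?_⟩
    subst hn4
    have hcard : Nat.card (om L) = p ^ 3 := by
      rw [card_om]
      have hL := L.card_mul_index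
      rw [hidx, hn, pow_succ] at hL
      exact Nat.eq_of_mul_eq_mul_right hp.out.pos hL
    refine ⟨hcard, ?_⟩
    rcases S5186.classify hcard (not_isPGroup_commutator_mulAut hS hF hE) with ⟨hab, -⟩ | ⟨-, hext, hx⟩ | ⟨h2, -⟩
    · refine absurd ?_ hc4
      rw [hcdef, commutatorElement_eq_one_iff_mul_comm.2 ?_]
      · exact one_mem _
      · exact congrArg Subtype.val ((eL L).injective
          (by rw [map_mul, map_mul]; exact hab _ _) : (⟨g, h2L hg⟩ : L) * ⟨e, he⟩ = ⟨e, he⟩ * ⟨g, h2L hg⟩)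
    · refine ⟨hext, ?_⟩
      haveI : Nontrivial (om L) := Finite.one_lt_card_iff_nontrivial.1
        (by rw [hcard]; exact Nat.one_lt_pow (by omega) hp.out.one_lt)
      refine ((Nat.dvd_prime hp.out).1 (Monoid.exponent_dvd_of_forall_pow_eq_one hx)).resolve_left fun h1 => ?_
      obtain ⟨x, hx1⟩ := exists_ne (1 : om L)
      have h := Monoid.pow_exponent_eq_one x
      rw [h1, pow_one] at h
      exact hx1 h
    · omega
  -- the fourth term
  haveI := gam_normal (G := S) 3
  haveI := gam_normal (G := S) 2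
  set K3 := ⁅gam S 3, L⁆ with hK3
  have hK34 : K3 ≤ gam S 4 := Subgroup.commutator_le.2 fun a ha b _ => gam_commutator (j := 1) ha (Subgroup.mem_top b)
  have hmem3 : ∀ a ∈ gam S 3, ∀ b ∈ L, ⁅a, b⁆ ∈ K3 := fun a ha b hb => Subgroup.commutator_mem_commutator ha hb
  have hKeq : K3 = gam S 4 := by
    refine le_antisymm hK34 fun y hy => ?_
    have hle : gam S 3 ≤ Subgroup.zpowers c ⊔ K3 := by
      have hnorm : L ≤ Subgroup.normalizer ((Subgroup.zpowers c ⊔ K3 : Subgroup S) : Set S) := fun x hx => by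
        refine MaxEss.mem_norm fun k hk => ?_
        rw [show x * k * x⁻¹ = ⁅k, x⁆⁻¹ * k by simp only [commutatorElement_def]; group]
        exact mul_mem (inv_mem (Subgroup.mem_sup_right (hmem3 k (sup_le (Subgroup.zpowers_le.2 hc3)
          (hK34.trans (gam_anti (by omega))) hk) x hx))) hk
      refine h23.trans (Subgroup.commutator_le.2 fun a ha b hb => ?_)
      refine comm_le_of_gens (X := {g} ∪ (gam S 3 : Set S)) (Y := {e, g} ∪ (gam S 3 : Set S))
        ((Subgroup.closure_le _).2 ?_ |>.trans hnorm) ((Subgroup.closure_le _).2 ?_ |>.trans hnorm) ?_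
        a (gam_le_closure hn h3 hcl le_rfl (by omega) hg hg3 ha) b (hgen hb)
      · exact Set.union_subset (Set.singleton_subset_iff.2 (h2L hg)) h3L
      · refine Set.union_subset ?_ h3L
        rintro x (rfl | rfl)
        exacts [he, h2L hg]
      · rintro x (hx | hx) y ((hy | hy) | hy)
        · rw [hx, hy]; exact Subgroup.mem_sup_left (Subgroup.mem_zpowers c)
        · rw [hx, show y = g from hy, commutatorElement_self]; exact one_mem _
        · rw [hx]; exact Subgroup.mem_sup_right (comm_mem_symm (hmem3 y hy g (h2L hg)))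
        · rw [hy]; exact Subgroup.mem_sup_right (hmem3 x hx e he)
        · rw [show y = g from hy]; exact Subgroup.mem_sup_right (hmem3 x hx g (h2L hg))
        · exact Subgroup.mem_sup_right (hmem3 x hx y (h3L hy))
    have hcp : c ^ p ∈ K3 := by
      refine (QuotientGroup.eq_one_iff _).1 ?_
      set f := QuotientGroup.mk' K3 with hf
      show f (c ^ p) = 1
      have com : ∀ {a b : S}, a ∈ gam S 3 → b ∈ L → Commute (f a) (f b) := fun ha hb => by
        rw [Commute, SemiconjBy, ← commutatorElement_eq_one_iff_mul_comm, ← map_commutatorElement]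
        exact (QuotientGroup.eq_one_iff _).2 (hmem3 _ ha _ hb)
      have h := MaxClassLinear.comm_zpow_zpow (c := f g) (g := f e)
        (by rw [← map_commutatorElement]; exact com hc3 (h2L hg))
        (by rw [← map_commutatorElement]; exact com hc3 he) (p : ℤ) 1
      rw [mul_one, zpow_natCast, zpow_one, zpow_natCast, ← map_pow, ← map_commutatorElement,
        ← map_commutatorElement, ← map_pow] at h
      rw [← h]
      exact (QuotientGroup.eq_one_iff _).2 (hmem3 _ (pow_mem_succ hn h3 hcl le_rfl (by omega) hg) e he)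
    obtain ⟨_, ⟨k, rfl⟩, z, hz, rfl⟩ := Subgroup.mem_sup_of_normal_right.1 (hle (gam_anti (by omega) hy))
    have hk : c ^ k ∈ gam S 4 := (Subgroup.mul_mem_cancel_right _ (hK34 hz)).1 hy
    obtain ⟨t, rfl⟩ := dvd_of_zpow_mem hp.out hc4 (pow_mem_succ hn h3 hcl (by omega) (by omega) hc3) hk
    refine mul_mem ?_ hz
    show c ^ ((p : ℤ) * t) ∈ K3
    rw [zpow_mul, zpow_natCast]
    exact zpow_mem hcp t
  have inv4 : InvA F L (gam S 4) := hKeq ▸ inv3.comm h3L
  have he3 : e ∉ twoStep S 3 := fun h => MaxClassSylow.not_gam_le' hn h3 hcl (i := 4) (by omega) (by omega) (by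
    rw [← hKeq, hK3, Subgroup.commutator_le]
    exact fun a ha b hb => ((hLe.trans ((Subgroup.closure_le _).2 (Set.union_subset
      (Set.singleton_subset_iff.2 h) (gam_two_le 3)))) hb) a ha)
  have notinv5 : ¬ InvA F L (gam S 5) := by
    intro inv5
    refine notinv fun a ha x hx => ?_
    set y : S := ((a x : L) : S) with hy
    have hy3 : y ∈ twoStep S 3 := by
      intro w hw
      have hw' : ((a⁻¹ ⟨w, h3L hw⟩ : L) : S) ∈ gam S 3 := inv3 _ (inv_mem ha) _ hw
      have h1 := gam_commutator hw' hx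
      have h2 := inv5 a ha ⁅a⁻¹ ⟨w, h3L hw⟩, x⁆ (gam_anti (by omega) h1)
      rw [map_commutatorElement a, MulAut.apply_inv_self] at h2
      exact h2
    have h1 : y ∈ Subgroup.zpowers e ⊔ gam S 2 :=
      (Subgroup.closure_le _).2 (Set.union_subset (Set.singleton_subset_iff.2
        (Subgroup.mem_sup_left (Subgroup.mem_zpowers e))) fun z hz => Subgroup.mem_sup_right hz) (hLe (a x).2)
    obtain ⟨_, ⟨k, rfl⟩, z, hz, hkz⟩ := Subgroup.mem_sup_of_normal_right.1 h1
    rw [← hkz] at hy3 ⊢
    have hep : e ^ p ∈ gam S 2 := S3806.pow_mem_gam hn h3 hcl le_rfl hp.out.two_le (by omega) e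
    have hk : e ^ k ∈ twoStep S 3 := (Subgroup.mul_mem_cancel_right _ (gam_two_le 3 hz)).1 hy3
    obtain ⟨t, rfl⟩ := dvd_of_zpow_mem hp.out he3 (gam_two_le 3 hep) hk
    refine mul_mem ?_ hz
    show e ^ ((p : ℤ) * t) ∈ gam S 2
    rw [zpow_mul, zpow_natCast]
    exact zpow_mem hep t
  have hn6 : 6 ≤ n := by
    by_contra hlt
    refine notinv5 fun a _ x hx => ?_
    rw [gam_eq_bot hn h3 hcl (by omega), Subgroup.mem_bot] at hx ⊢
    rw [show x = 1 from Subtype.ext hx, map_one]
    rfl
  have h46 : ∀ w ∈ gam S 4, ∀ x ∈ L, ⁅w, x⁆ ∈ gam S 6 := by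
    haveI := gam_normal (G := S) 4
    obtain ⟨m, hm, -, hm'⟩ := exists_level hn h3 hcl ⁅gam S 4, L⁆ (r := 5) (by omega) (by omega)
      (Subgroup.commutator_le.2 fun a ha b _ => gam_commutator (j := 1) ha (Subgroup.mem_top b))
    have hm6 : 6 ≤ m := by
      by_contra hlt
      obtain rfl : m = 5 := by omega
      exact notinv5 (hm' ▸ inv4.comm ((gam_anti (by omega)).trans h3L))
    exact fun w hw x hx => gam_anti hm6 (hm' ▸ Subgroup.commutator_mem_commutator hw hx)
  rcases eq_or_lt_of_le hn6 with hn6' | hn7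
  · refine Or.inl ?_
    subst hn6'
    haveI := (IsPGroup.of_card hn).isNilpotent
    have hW : Subgroup.upperCentralSeries S 2 = gam S 4 := by
      refine (Subgroup.eq_of_le_of_card_ge (fun x hx => ?_) ?_).symm
      · rw [Subgroup.mem_upperCentralSeries_succ_iff, Subgroup.upperCentralSeries_one]
        intro y
        rw [S5270.center_eq hn h3 hcl]
        exact gam_commutator (j := 1) hx (Subgroup.mem_top y)
      · rw [S5270.card_second hn h4 hcl, S3806.card_gam hn h3 hcl (by omega) (by omega)]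
    rw [hW]
    have hle : L ≤ Subgroup.centralizer (gam S 4 : Set S) := fun x hx => Subgroup.mem_centralizer_iff.2 fun w hw => by
      have h := h46 w hw x hx
      rw [gam_eq_bot hn h3 hcl le_rfl, Subgroup.mem_bot, commutatorElement_eq_one_iff_mul_comm] at h
      exact h
    refine le_antisymm hle fun x hx => ?_
    by_contra hxL
    refine MaxClassSylow.twoStep_ne_top hn h3 hcl (j := 4) (by omega) (by omega) (eq_top_of_max hidx hxL
      (fun z hz w hw => h46 w hw z hz) fun w hw => ?_)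
    rw [commutatorElement_eq_one_iff_mul_comm.2 (Subgroup.mem_centralizer_iff.1 hx w hw)]
    exact one_mem _
  exfalso
  -- an automorphism moving `γ₂`
  obtain ⟨α, hαm⟩ : ∃ α : autL F L, (((α : MulAut L) ⟨g, h2L hg⟩ : L) : S) ∉ gam S 2 := by
    by_contra! hall
    refine notinv fun a ha x hx => ?_
    obtain ⟨_, ⟨k, rfl⟩, z, hz, hkz⟩ := Subgroup.mem_sup_of_normal_right.1
      (S3806.gam_gen hn h3 hcl le_rfl (by omega) hg hg3 hx)
    rw [show x = ⟨g, h2L hg⟩ ^ k * ⟨z, h3L hz⟩ from Subtype.ext hkz.symm, map_mul, map_zpow, Subgroup.coe_mul,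
      Subgroup.coe_zpow]
    exact mul_mem (zpow_mem (hall ⟨a, ha⟩) k) (gam_anti (by omega) (inv3 a ha _ hz))
  set l : L ⧸ Φ := ((⟨g, h2L hg⟩ : L) : L ⧸ Φ) with hl
  set ê : L ⧸ Φ := ((⟨e, he⟩ : L) : L ⧸ Φ) with hê
  set m := theta F L α l with hm
  have hl1 : l ≠ 1 := fun h => hg3 ((hmem ⟨g, h2L hg⟩).1 ((QuotientGroup.eq_one_iff _).1 h))
  have hnot : ∀ x : L, ((x : L ⧸ Φ) ∈ Subgroup.zpowers l → (x : S) ∈ gam S 2) := by
    rintro x ⟨k, hk⟩
    have hk' : ((⟨g, h2L hg⟩ ^ k : L) : L ⧸ Φ) = x := (QuotientGroup.mk_zpow Φ _ k).trans hk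
    have h1 := (hmk _ _).1 hk'
    rw [Subgroup.coe_zpow] at h1
    have := mul_mem (zpow_mem hg k) (gam_anti (show 2 ≤ 3 by omega) h1)
    rwa [mul_inv_cancel_left] at this
  have hlm : PlaneFrame.Indep l m := ⟨hl1, fun h => hαm (hnot _ (by rwa [hm, hl, theta_apply] at h))⟩
  have hle' : PlaneFrame.Indep l ê := ⟨hl1, fun h => heg (hnot _ h)⟩
  have hV : Nat.card (L ⧸ Φ) = p ^ 2 := by
    have h1 := Subgroup.card_eq_card_quotient_mul_card_subgroup Φ
    have h2 : Nat.card Φ = p ^ (n - 3) := by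
      rw [← Subgroup.card_map_of_injective L.subtype_injective, hΦ3, S3806.card_gam hn h3 hcl (by omega) (by omega)]
    have hL := L.card_mul_index
    rw [hidx, hn, show n = n - 3 + 2 + 1 by omega, pow_succ] at hL
    rw [Nat.eq_of_mul_eq_mul_right hp.out.pos hL, h2, pow_add, mul_comm] at h1
    exact (Nat.eq_of_mul_eq_mul_right (pow_pos hp.out.pos _) h1).symm
  set a0 := cjS F L s with ha0
  have hal : theta F L a0 l = l := by
    rw [hl, theta_apply]
    refine (hmk _ _).2 ?_
    rw [ha0, cjS_apply]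
    rw [show (s * g * s⁻¹)⁻¹ * g = ⁅s, g⁻¹⁆ by simp only [commutatorElement_def]; group]
    exact gam_commutator (i := 1) (Subgroup.mem_top s) (inv_mem hg)
  have hae : theta F L a0 ê = ê * l := by
    rw [hê, theta_apply, show ((a0 : MulAut L) ⟨e, he⟩ : L) = ⟨g, h2L hg⟩ * ⟨e, he⟩ from Subtype.ext (by
      rw [ha0, cjS_apply, Subgroup.coe_mul]
      show s * e * s⁻¹ = g * e
      rw [hgdef, commutatorElement_def, inv_mul_cancel_right]), QuotientGroup.mk_mul, mul_comm]
  obtain ⟨x, y, hxy⟩ := PlaneFrame.span hV hle' m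
  have hy : (y : ZMod p) ≠ 0 := fun h => hlm.2 ⟨x, by
    rw [hxy, PlaneFrame.zpow_congr (hexp ê) (j := 0) (by simpa using h), zpow_zero, mul_one]⟩
  have ham : theta F L a0 m = m * l ^ y := by
    rw [hxy, PlaneFrame.apply_span, hal, hae, mul_zpow, mul_assoc]
  obtain ⟨x', y', hxy'⟩ := PlaneFrame.span hV hle' ((theta F L α)⁻¹ l)
  have hy' : (y' : ZMod p) ≠ 0 := fun h => by
    rw [PlaneFrame.zpow_congr (hexp ê) (j := 0) (by simpa using h), zpow_zero, mul_one] at hxy'
    have hlx : l = m ^ x' := by rw [hm, ← map_zpow, ← hxy', MulAut.apply_inv_self]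
    have hx0 : (x' : ZMod p) ≠ 0 := fun h0 => hl1 (by
      rw [hlx, PlaneFrame.zpow_congr (hexp m) (j := 0) (by simpa using h0), zpow_zero])
    haveI : NeZero p := ⟨hp.out.ne_zero⟩
    obtain ⟨j, hj⟩ := ZMod.intCast_surjective (x' : ZMod p)⁻¹
    refine hlm.2 ⟨j, ?_⟩
    show l ^ j = m
    rw [hlx, ← zpow_mul, PlaneFrame.zpow_congr (hexp m) (j := 1)
      (by push_cast; rw [hj, mul_inv_cancel₀ hx0]), zpow_one]
  have hbm : theta F L (α * a0 * α⁻¹) m = m := by
    rw [map_mul, map_mul, map_inv, MulAut.mul_apply, MulAut.mul_apply, hm, MulAut.inv_apply_self, hal]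
  have hbl : theta F L (α * a0 * α⁻¹) l = l * m ^ y' := by
    rw [map_mul, map_mul, map_inv, MulAut.mul_apply, MulAut.mul_apply, hxy', PlaneFrame.apply_span (φ := theta F L a0),
      hal, hae, mul_zpow, ← mul_assoc, map_mul, ← hxy', MulAut.apply_inv_self, map_zpow, ← hm]
  obtain ⟨-, τ, hτl, hτm⟩ := PlaneFrame.exists_torus (theta F L) hexp h5 a0 (α * a0 * α⁻¹) hy hy' hal ham hbm hbl
  have hτ : ∀ v, theta F L τ v = v⁻¹ := fun v => by
    obtain ⟨i, j, rfl⟩ := PlaneFrame.span hV hlm v
    rw [PlaneFrame.apply_span, hτl, hτm, inv_zpow, inv_zpow, mul_inv]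
  have hcomm : ∀ u : autL F L, theta F L τ * theta F L u = theta F L u * theta F L τ := fun u =>
    MulEquiv.ext fun v => by rw [MulAut.mul_apply, MulAut.mul_apply, hτ, hτ, map_inv]
  have hN : Subgroup.normalizer (L : Set S) = ⊤ := Subgroup.normalizer_eq_top_iff.2 hLn
  obtain ⟨b, -, hb⟩ := exists_extend hS hF hE.2.1 τ.2 (fun g' _ => by
    obtain ⟨q, hq, hqe⟩ := exists_inner hS hF hE (a := τ * cjS F L g' * τ⁻¹ * (cjS F L g')⁻¹) (by
      rw [map_mul, map_mul, map_mul, map_inv, map_inv, hcomm, mul_inv_cancel_right, mul_inv_cancel])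
    refine ⟨q * g', hN ▸ Subgroup.mem_top _, fun z hz => ?_⟩
    have h1 := hqe ((cjS F L g' : MulAut L) ((τ : MulAut L) z))
    simp only [Subgroup.coe_mul, Subgroup.coe_inv, MulAut.mul_apply, MulAut.inv_apply_self] at h1
    rw [show (⟨g' * z * g'⁻¹, hz⟩ : L) = (cjS F L g' : MulAut L) z from Subtype.ext (cjS_apply g' z).symm, h1,
      cjS_apply]
    group)
  let incl : S →* Subgroup.normalizer (L : Set S) :=
    (MonoidHom.id S).codRestrict _ fun g => hN ▸ Subgroup.mem_top g
  set β : S →* S := (Subgroup.normalizer (L : Set S)).subtype.comp (b.toMonoidHom.comp incl) with hβdef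
  have hβ : ∀ x : L, β x = (((τ : MulAut L) x : L) : S) := fun x => hb x _
  have hinv : ∀ x : L, (x : S) * β x ∈ gam S 3 := fun x => by
    rw [hβ]
    refine (hmem (x * (τ : MulAut L) x)).1 ((QuotientGroup.eq_one_iff _).1 ?_)
    rw [QuotientGroup.mk_mul, ← theta_apply, hτ, mul_inv_cancel]
  refine no_inversion hn h3 hcl (by omega) hn7 h2L he he2 hg hg3 (by
      rw [hgdef, commutatorElement_def, inv_mul_cancel_right])
    (fun K hK hs => eq_top_of_max hidx hsL hK hs) hgen h46 hKeq.ge β
    (hinv ⟨g, h2L hg⟩) (hinv ⟨e, he⟩) ?_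
  have h1 : cjS F L (β s) * τ = τ * cjS F L s := Subtype.ext (MulEquiv.ext fun z => Subtype.ext (by
    show β s * (((τ : MulAut L) z : L) : S) * (β s)⁻¹ =
      (((τ : MulAut L) ((cjS F L s : MulAut L) z) : L) : S)
    rw [← hβ, ← hβ, cjS_apply, map_mul, map_mul, map_inv]))
  have h2 : theta F L (cjS F L (β s)) = theta F L (cjS F L s) := by
    have h := congrArg (theta F L) h1
    rw [map_mul, map_mul, hcomm] at h
    exact mul_right_cancel h
  obtain ⟨q, hq, hqe⟩ := exists_inner hS hF hE (a := cjS F L (s⁻¹ * β s)) (by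
    rw [map_mul, map_inv, map_mul, map_inv, h2, inv_mul_cancel])
  have hcq : q⁻¹ * (s⁻¹ * β s) ∈ L := hcen (Subgroup.mem_centralizer_iff.2 fun z hz => by
    have h := hqe ⟨z, hz⟩
    rw [cjS_apply] at h
    have h' : s⁻¹ * β s * z * (s⁻¹ * β s)⁻¹ = q * z * q⁻¹ := h
    calc z * (q⁻¹ * (s⁻¹ * β s)) = q⁻¹ * (q * z * q⁻¹) * (s⁻¹ * β s) := by group
      _ = q⁻¹ * (s⁻¹ * β s) * z := by rw [← h']; group)
  have := mul_mem hq hcq
  rwa [mul_inv_cancel_left] at this

end Cfsg.Agent.MaxNormal
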